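import Cfsg.Agent.Lib.SFourLocal.Module
import Cfsg.Agent.Lib.Cores.Frattini
import Cfsg.Agent.Lib.Coprime.Action
import Cfsg.Agent.S2759

/-!
The actions of a group on its elementary abelian sections.
-/

set_option autoImplicit false
set_option linter.style.haveILetI false

open scoped commutatorElement

namespace Cfsg.Agent.Lib.SFourLocal

universe u v

variable {X : Type u} [Group X]

/-- The section `L / U`. -/
def secV (U L : Subgroup X) [U.Normal] : Subgroup (X ⧸ U) := L.map (QuotientGroup.mk' U)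

instance secV_normal (U L : Subgroup X) [U.Normal] [L.Normal] : (secV U L).Normal :=
  Subgroup.Normal.map inferInstance _ (QuotientGroup.mk'_surjective U)

/-- The action on the section `L / U`. -/
def secAct (U L : Subgroup X) [U.Normal] [L.Normal] : X →* MulAut ↥(secV U L) :=
  MulAut.conjNormal.comp (QuotientGroup.mk' U)

/-- The class of an element of `L`. -/
def secMk (U L : Subgroup X) [U.Normal] (l : X) (hl : l ∈ L) : ↥(secV U L) :=
  ⟨QuotientGroup.mk l, l, hl, rfl⟩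

theorem secMk_surj (U L : Subgroup X) [U.Normal] (v : ↥(secV U L)) : ∃ l, ∃ hl : l ∈ L, v = secMk U L l hl := by
  obtain ⟨w, l, hl, rfl⟩ := v
  exact ⟨l, hl, rfl⟩

theorem secAct_mk (U L : Subgroup X) [U.Normal] [L.Normal] (x l : X) (hl : l ∈ L) :
    secAct U L x (secMk U L l hl) =
      secMk U L (x * l * x⁻¹) (Subgroup.Normal.conj_mem inferInstance l hl x) := by
  apply Subtype.ext
  show (QuotientGroup.mk x : X ⧸ U) * QuotientGroup.mk l * (QuotientGroup.mk x)⁻¹ = QuotientGroup.mk (x * l * x⁻¹)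
  rw [QuotientGroup.mk_mul, QuotientGroup.mk_mul, QuotientGroup.mk_inv]

theorem secMk_eq (U L : Subgroup X) [U.Normal] (a b : X) (ha : a ∈ L) (hb : b ∈ L) :
    secMk U L a ha = secMk U L b hb ↔ a⁻¹ * b ∈ U := by
  rw [Subtype.ext_iff]
  exact QuotientGroup.eq

theorem secAct_fix_iff (U L : Subgroup X) [U.Normal] [L.Normal] (x l : X) (hl : l ∈ L) :
    secAct U L x (secMk U L l hl) = secMk U L l hl ↔ l⁻¹ * (x * l * x⁻¹) ∈ U := by
  rw [secAct_mk]
  exact eq_comm.trans (secMk_eq U L _ _ _ _)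

theorem mem_ker_secAct (U L : Subgroup X) [U.Normal] [L.Normal] (x : X) :
    x ∈ (secAct U L).ker ↔ ∀ l ∈ L, l⁻¹ * (x * l * x⁻¹) ∈ U := by
  constructor
  · intro h l hl
    rw [← secAct_fix_iff U L x l hl, MonoidHom.mem_ker.1 h]; rfl
  · intro h
    refine MonoidHom.mem_ker.2 (MulEquiv.ext fun v => ?_)
    obtain ⟨l, hl, rfl⟩ := secMk_surj U L v
    exact (secAct_fix_iff U L x l hl).2 (h l hl)

/-- `S₄`-free groups induce no `S₃` on sections of normal `2`-subgroups. -/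
theorem not_three_range [Finite X] (hS4 : ¬ Cfsg.Involves (Equiv.Perm (Fin 4)) X) {T : Subgroup X} [T.Normal]
    (hT : IsPGroup 2 T) {M : Type v} [Group M] (ψ : X →* M)
    (hker : Subgroup.centralizer (T : Set X) ≤ ψ.ker) : ¬ Cfsg.Involves (Equiv.Perm (Fin 3)) ↥ψ.range := by
  intro h
  apply hS4
  refine Cfsg.Agent.S2759.result.2 ⟨T, hT, ?_⟩
  obtain ⟨K, f, hf⟩ := Fusion.exists_surjective_of_involves h
  set C := (Subgroup.centralizer (T : Set X)).subgroupOf (Subgroup.normalizer (T : Set X))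
  let θ : ↥(Subgroup.normalizer (T : Set X)) ⧸ C →* ↥ψ.range :=
    QuotientGroup.lift C (ψ.rangeRestrict.comp (Subgroup.normalizer (T : Set X)).subtype) (fun x hx =>
      Subtype.ext (hker (Subgroup.mem_subgroupOf.1 hx)))
  have hθ : Function.Surjective θ := by
    rintro ⟨y, x, rfl⟩
    exact ⟨QuotientGroup.mk ⟨x, by rw [Subgroup.normalizer_eq_top]; exact Subgroup.mem_top x⟩, Subtype.ext rfl⟩
  exact Fusion.involves_of_surjective (K.comap θ) (f.comp (θ.subgroupComap K))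
    (hf.comp (MonoidHom.subgroupComap_surjective_of_surjective θ K hθ))

/-- The bound for a `2`-subgroup acting through an elementary abelian group. -/
theorem layer_bound [Finite X] [Group.IsSolvable X] {V : Type v} [CommGroup V] [Finite V]
    (ψ : X →* MulAut V) (hex : ∀ w : V, w * w = 1) (hcore : Cfsg.pCore 2 ↥ψ.range = ⊥)
    (hS3 : ¬ Cfsg.Involves (Equiv.Perm (Fin 3)) ↥ψ.range) (R : Subgroup X)
    (hR : ∀ r ∈ R, r * r ∈ ψ.ker) :
    ∃ y : X, Nat.card R ^ 2 * Nat.card ↥(fixV ψ R) ≤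
      Nat.card ↥(fixV ψ R ⊔ (comV ψ R).map (ψ y).toMonoidHom) * Nat.card ↥(R ⊓ ψ.ker) ^ 2 := by
  haveI : Group.IsSolvable ↥ψ.range := Group.isSolvable_of_surjective ψ.rangeRestrict_surjective
  obtain ⟨⟨_, y, rfl⟩, hy⟩ := offender_bound hcore hS3 hex ψ.range.subtype ψ.range.subtype_injective
    (R.map ψ.rangeRestrict) (by
      rintro _ ⟨r, hr, rfl⟩
      rw [← map_mul]
      exact Subtype.ext (hR r hr))
  have hfix : fixV ψ.range.subtype (R.map ψ.rangeRestrict) = fixV ψ R := by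
    ext w
    exact ⟨fun h r hr => h _ ⟨r, hr, rfl⟩, by rintro h _ ⟨r, hr, rfl⟩; exact h r hr⟩
  have hcom : comV ψ.range.subtype (R.map ψ.rangeRestrict) = comV ψ R := by
    unfold comV
    congr 1
    ext w
    constructor
    · rintro ⟨_, ⟨r, hr, rfl⟩, u, hu⟩; exact ⟨r, hr, u, hu⟩
    · rintro ⟨r, hr, u, hu⟩; exact ⟨_, ⟨r, hr, rfl⟩, u, hu⟩
  rw [hfix, hcom] at hy
  have hcard : Nat.card R = Nat.card ↥(R.map ψ.rangeRestrict) * Nat.card ↥(R ⊓ ψ.ker) := by
    have h1 := (ψ.comp R.subtype).ker.index_mul_card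
    rw [Subgroup.index_ker] at h1
    have e1 : (ψ.comp R.subtype).range = R.map ψ := by rw [MonoidHom.range_comp, Subgroup.range_subtype]
    have e2 : Nat.card ↥(R.map ψ.rangeRestrict) = Nat.card ↥(R.map ψ) := by
      rw [← Subgroup.card_map_of_injective (f := ψ.range.subtype) ψ.range.subtype_injective, Subgroup.map_map]
      rfl
    have e3 : Nat.card ↥(ψ.comp R.subtype).ker = Nat.card ↥(R ⊓ ψ.ker) := by
      rw [← Subgroup.card_map_of_injective (f := R.subtype) R.subtype_injective]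
      congr 2
      ext x
      simp [Subgroup.mem_map, MonoidHom.mem_ker, and_comm]
    rw [e1, e3] at h1
    rw [e2, h1]
  refine ⟨y, ?_⟩
  rw [hcard, mul_pow, mul_right_comm]
  exact Nat.mul_le_mul_right _ hy

variable [Finite X]

/-- The Frattini section of `O₂` in a group of characteristic two. -/
theorem core_secAct_frattini (hchar : Subgroup.centralizer (Cfsg.pCore 2 X : Set X) ≤ Cfsg.pCore 2 X)
    [((frattini ↥(Cfsg.pCore 2 X)).map (Cfsg.pCore 2 X).subtype).Normal] :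
    (secAct ((frattini ↥(Cfsg.pCore 2 X)).map (Cfsg.pCore 2 X).subtype) (Cfsg.pCore 2 X)).ker = Cfsg.pCore 2 X ∧
    Cfsg.pCore 2 ↥(secAct ((frattini ↥(Cfsg.pCore 2 X)).map (Cfsg.pCore 2 X).subtype) (Cfsg.pCore 2 X)).range = ⊥ := by
  haveI : Fact (Nat.Prime 2) := ⟨Nat.prime_two⟩
  set O := Cfsg.pCore 2 X with hOdef
  set U := (frattini ↥O).map O.subtype with hU
  set ψ := secAct U O with hψ
  have hO : IsPGroup 2 O := Cores.pCore_isPGroup 2 X
  have hOker : O ≤ ψ.ker := by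
    intro x hx
    rw [hψ, mem_ker_secAct]
    intro l hl
    haveI := hO.isNilpotent
    refine ⟨⟨l, hl⟩⁻¹ * (⟨x, hx⟩ * ⟨l, hl⟩ * ⟨x, hx⟩⁻¹), Cores.commutator_le_frattini ?_, rfl⟩
    rw [show (⟨l, hl⟩ : ↥O)⁻¹ * (⟨x, hx⟩ * ⟨l, hl⟩ * ⟨x, hx⟩⁻¹) =
      ⁅(⟨l, hl⟩ : ↥O)⁻¹, ⟨x, hx⟩⁆ by rw [commutatorElement_def]; group]
    exact Subgroup.commutator_mem_commutator (Subgroup.mem_top _) (Subgroup.mem_top _)
  have hkerp : IsPGroup 2 ψ.ker := by
    intro ⟨k, hk⟩
    obtain ⟨e, m, hm, hem⟩ := Nat.exists_eq_pow_mul_and_not_dvd (orderOf_pos k).ne' 2 (by norm_num)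
    set a := k ^ 2 ^ e with ha
    have hao : a ^ m = 1 := by rw [ha, ← pow_mul, ← hem, pow_orderOf_eq_one]
    have hmodd : Odd m := Nat.not_even_iff_odd.1 fun h => hm h.two_dvd
    have haodd : Odd (orderOf a) := hmodd.of_dvd_nat (orderOf_dvd_of_pow_eq_one hao)
    obtain ⟨n, hn⟩ := IsPGroup.iff_card.1 (hO.to_subgroup (frattini ↥O))
    have hcen := Coprime.le_centralizer_of_frattini (A := Subgroup.zpowers a) (K := O)
      (by rw [Nat.card_zpowers, hn]; exact (Nat.coprime_two_right.2 haodd).pow_right n)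
      (fun b hb l hl => by
        have hbk : b ∈ ψ.ker := (Subgroup.zpowers_le.2 (pow_mem hk _)) hb
        have h1 := (mem_ker_secAct U O b).1 hbk l hl
        have h2 := (inferInstance : U.Normal).conj_mem _ h1 l
        rwa [show l * (l⁻¹ * (b * l * b⁻¹)) * l⁻¹ = b * l * b⁻¹ * l⁻¹ by group] at h2)
    have haO : a ∈ O := hchar (hcen (Subgroup.mem_zpowers a))
    obtain ⟨i, hi⟩ := hO ⟨a, haO⟩
    have h2 : orderOf a ∣ 2 ^ i := orderOf_dvd_of_pow_eq_one (congrArg Subtype.val hi)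
    have h3 : orderOf a = 1 := Nat.eq_one_of_dvd_coprimes ((Nat.coprime_two_right.2 haodd).pow_right i) dvd_rfl h2
    exact ⟨e, Subtype.ext (orderOf_eq_one_iff.1 h3)⟩
  have hkerO : ψ.ker ≤ O := Cores.le_pCore inferInstance hkerp
  refine ⟨le_antisymm hkerO hOker, ?_⟩
  rw [Cores.pCore_eq_bot_iff]
  intro N hN hNp
  haveI := hN
  have hpre : IsPGroup 2 (N.comap ψ.rangeRestrict) := hNp.comap_of_ker_isPGroup _ (by
    rw [MonoidHom.ker_rangeRestrict]; exact hkerp)
  have hle : N.comap ψ.rangeRestrict ≤ ψ.ker := (Cores.le_pCore inferInstance hpre).trans hOker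
  rw [eq_bot_iff]
  rintro ⟨_, x, rfl⟩ hx
  rw [Subgroup.mem_bot]
  exact Subtype.ext (hle (show x ∈ N.comap ψ.rangeRestrict from hx))

/-- A chief section. -/
theorem core_secAct_chief (U L : Subgroup X) [U.Normal] [L.Normal] (hUL : U < L) (hL : IsPGroup 2 L)
    (hmin : ∀ M : Subgroup X, M.Normal → U ≤ M → M ≤ L → M = U ∨ M = L) :
    Cfsg.pCore 2 ↥(secAct U L).range = ⊥ ∧ Cfsg.pCore 2 X ≤ (secAct U L).ker := by
  haveI : Fact (Nat.Prime 2) := ⟨Nat.prime_two⟩
  set ψ := secAct U L with hψ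
  have key : ∀ Q : Subgroup ↥ψ.range, Q.Normal → IsPGroup 2 Q → Q = ⊥ := by
    intro Q hQ hQp
    let A : Subgroup (MulAut ↥(secV U L)) := Q.map ψ.range.subtype
    have hA : IsPGroup 2 A := hQp.map _
    have hdvd : 2 ∣ Nat.card ↥(secV U L) := by
      have hp : IsPGroup 2 ↥(secV U L) := hL.map _
      obtain ⟨k, hk⟩ := IsPGroup.iff_card.1 hp
      rcases k with _ | k
      · exfalso
        rw [pow_zero, Subgroup.card_eq_one, secV, Subgroup.map_eq_bot_iff, QuotientGroup.ker_mk'] at hk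
        exact hUL.not_ge hk
      · rw [hk]; exact Dvd.intro_left _ rfl
    obtain ⟨w, hw, hw1⟩ := hA.exists_fixed_point_of_prime_dvd_card_of_fixed_point ↥(secV U L) hdvd
      (a := 1) (fun g => map_one (g : MulAut ↥(secV U L)))
    let M : Subgroup X :=
      { carrier := {l | ∃ hl : l ∈ L, ∀ g ∈ A, g (secMk U L l hl) = secMk U L l hl}
        one_mem' := ⟨one_mem _, fun g _ => map_one g⟩
        mul_mem' := fun {a b} ha hb => by
          obtain ⟨ha1, ha2⟩ := ha; obtain ⟨hb1, hb2⟩ := hb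
          refine ⟨mul_mem ha1 hb1, fun g hg => ?_⟩
          rw [show secMk U L (a * b) (mul_mem ha1 hb1) = secMk U L a ha1 * secMk U L b hb1 from rfl, map_mul,
            ha2 g hg, hb2 g hg]
        inv_mem' := fun {a} ha => by
          obtain ⟨ha1, ha2⟩ := ha
          refine ⟨inv_mem ha1, fun g hg => ?_⟩
          rw [show secMk U L a⁻¹ (inv_mem ha1) = (secMk U L a ha1)⁻¹ from rfl, map_inv, ha2 g hg] }
    have hMn : M.Normal := ⟨fun a ⟨ha, ha2⟩ x => ⟨Subgroup.Normal.conj_mem inferInstance a ha x, by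
      rintro g ⟨q, hq, rfl⟩
      rw [← secAct_mk U L x a ha, ← hψ]
      have hq' := ha2 _ ⟨_, hQ.conj_mem q hq ⟨ψ x, x, rfl⟩⁻¹, rfl⟩
      have h2 := congrArg (⇑(ψ x)) hq'
      simpa [MulAut.mul_apply] using h2⟩⟩
    have hUM : U ≤ M := fun a ha => ⟨hUL.le ha, fun g _ => by
      have e : secMk U L a (hUL.le ha) = 1 := Subtype.ext ((QuotientGroup.eq_one_iff a).2 ha)
      rw [e, map_one]⟩
    have hMne : M ≠ U := by
      intro h
      obtain ⟨l, hl, rfl⟩ := secMk_surj U L w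
      have hlU : l ∈ U := h ▸ (⟨hl, fun g hg => hw ⟨g, hg⟩⟩ : l ∈ M)
      exact hw1 (Subtype.ext ((QuotientGroup.eq_one_iff l).2 hlU).symm)
    have hMtop : M = L := (hmin M hMn hUM (fun a ha => ha.1)).resolve_left hMne
    rw [eq_bot_iff]
    intro q hq
    rw [Subgroup.mem_bot]
    apply Subtype.ext
    refine MulEquiv.ext fun v => ?_
    obtain ⟨l, hl, rfl⟩ := secMk_surj U L v
    obtain ⟨hl', h⟩ := (hMtop ▸ hl : l ∈ M)
    exact h _ ⟨q, hq, rfl⟩
  refine ⟨(Cores.pCore_eq_bot_iff).2 key, fun x hx => ?_⟩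
  have h := key _ ((inferInstance : (Cfsg.pCore 2 X).Normal).map _ ψ.rangeRestrict_surjective)
    ((Cores.pCore_isPGroup 2 X).map _)
  have h1 : ψ.rangeRestrict x ∈ (⊥ : Subgroup ↥ψ.range) := h ▸ ⟨x, hx, rfl⟩
  exact congrArg Subtype.val (Subgroup.mem_bot.1 h1)

end Cfsg.Agent.Lib.SFourLocal
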