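import Cfsg.Agent.Lib.SFourLocal.Minimal
import Cfsg.Agent.Lib.Solvable.ThompsonComplement
import Cfsg.Agent.Lib.Involutions.StronglyEmbedded
import Cfsg.Prelude.Def_CaseTheorems
import Cfsg.Prelude.Def_Involutions

/-!
Groups all of whose `2`-local subgroups are solvable, of characteristic two and `S₄`-free.
-/

set_option autoImplicit false
set_option linter.style.haveILetI false

namespace Cfsg.Agent.Lib.SFourLocal

universe u

section Module

variable {X : Type u} [Group X] [Finite X]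

/-- `Ω₁Z(T)`. -/
def omZ (T : Subgroup X) : Subgroup X where
  carrier := {z | z ∈ T ∧ z * z = 1 ∧ ∀ t ∈ T, t * z = z * t}
  one_mem' := ⟨one_mem _, one_mul 1, fun t _ => by rw [mul_one, one_mul]⟩
  mul_mem' := fun {a b} ha hb => ⟨mul_mem ha.1 hb.1, by
      rw [show a * b * (a * b) = a * (b * a) * b by group, hb.2.2 a ha.1 |>.symm,
        show a * (a * b) * b = (a * a) * (b * b) by group, ha.2.1, hb.2.1, one_mul],
    fun t ht => by rw [← mul_assoc, ha.2.2 t ht, mul_assoc, hb.2.2 t ht, mul_assoc]⟩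
  inv_mem' := fun {a} ha => ⟨inv_mem ha.1, by rw [← mul_inv_rev, ha.2.1, inv_one],
    fun t ht => ((show Commute t a from ha.2.2 t ht).inv_right).eq⟩

omit [Finite X] in
theorem omZ_le (T : Subgroup X) : omZ T ≤ T := fun _ h => h.1

omit [Finite X] in
theorem omZ_elem (T : Subgroup X) : Cfsg.IsElementaryAbelian 2 (omZ T) :=
  LocalEven2.isElementaryAbelian_iff.2
    ⟨fun a ha _ hb => hb.2.2 a ha.1, fun a ha => by rw [pow_two]; exact ha.2.1⟩

omit [Finite X] in
/-- The join of two commuting elementary abelian subgroups. -/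
theorem elem_sup {A B : Subgroup X} (hA : Cfsg.IsElementaryAbelian 2 A) (hB : Cfsg.IsElementaryAbelian 2 B)
    (h : ∀ a ∈ A, ∀ b ∈ B, a * b = b * a) : Cfsg.IsElementaryAbelian 2 (A ⊔ B) := by
  obtain ⟨hAc, hA2⟩ := LocalEven2.isElementaryAbelian_iff.1 hA
  obtain ⟨hBc, hB2⟩ := LocalEven2.isElementaryAbelian_iff.1 hB
  have hcB : A ⊔ B ≤ Subgroup.centralizer ((A ⊔ B : Subgroup X) : Set X) := by
    refine sup_le (fun x hx => ?_) (fun x hx => ?_)
    · have h1 : A ⊔ B ≤ Subgroup.centralizer ({x} : Set X) := sup_le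
        (fun y hy => Subgroup.mem_centralizer_singleton_iff.2 (hAc y hy x hx))
        (fun y hy => Subgroup.mem_centralizer_singleton_iff.2 (h x hx y hy).symm)
      exact Subgroup.mem_centralizer_iff.2 fun y hy => Subgroup.mem_centralizer_singleton_iff.1 (h1 hy)
    · have h1 : A ⊔ B ≤ Subgroup.centralizer ({x} : Set X) := sup_le
        (fun y hy => Subgroup.mem_centralizer_singleton_iff.2 (h y hy x hx))
        (fun y hy => Subgroup.mem_centralizer_singleton_iff.2 (hBc y hy x hx))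
      exact Subgroup.mem_centralizer_iff.2 fun y hy => Subgroup.mem_centralizer_singleton_iff.1 (h1 hy)
  have hc : ∀ a ∈ A ⊔ B, ∀ b ∈ A ⊔ B, a * b = b * a :=
    fun a ha b hb => Subgroup.mem_centralizer_iff.1 (hcB hb) a ha
  rw [LocalEven2.isElementaryAbelian_iff]
  refine ⟨hc, fun b hb => ?_⟩
  let E : Subgroup X :=
    { carrier := {a | a ∈ A ⊔ B ∧ a ^ 2 = 1}
      one_mem' := ⟨one_mem _, one_pow 2⟩
      mul_mem' := fun {a b} ha hb => ⟨mul_mem ha.1 hb.1, by
        rw [(show Commute a b from hc a ha.1 b hb.1).mul_pow, ha.2, hb.2, one_mul]⟩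
      inv_mem' := fun {a} ha => ⟨inv_mem ha.1, by rw [inv_pow, ha.2, inv_one]⟩ }
  exact ((sup_le (fun y hy => ⟨Subgroup.mem_sup_left hy, hA2 y hy⟩)
    (fun y hy => ⟨Subgroup.mem_sup_right hy, hB2 y hy⟩) : A ⊔ B ≤ E) hb).2

theorem omZ_le_maxEA {T A : Subgroup X} (hA : LocalEven2.IsMaxEA 2 T A) : omZ T ≤ A := by
  have he := elem_sup hA.2.1 (omZ_elem T) fun a ha z hz => hz.2.2 a (hA.1 ha)
  have h := Subgroup.eq_of_le_of_card_ge (le_sup_left : A ≤ A ⊔ omZ T)
    (hA.2.2 _ (sup_le hA.1 (omZ_le T)) he)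
  exact h ▸ le_sup_right

theorem exists_omZ_ne_one {T : Subgroup X} (hT : IsPGroup 2 T) (hne : T ≠ ⊥) : omZ T ≠ ⊥ := by
  haveI : Fact (Nat.Prime 2) := ⟨Nat.prime_two⟩
  haveI : Nontrivial ↥T := (Subgroup.nontrivial_iff_ne_bot T).2 hne
  haveI := hT.center_nontrivial
  obtain ⟨c, hc⟩ := exists_ne (1 : ↥(Subgroup.center ↥T))
  obtain ⟨k, hk⟩ := (hT.to_subgroup (Subgroup.center ↥T)) c
  intro hbot
  apply hc
  induction k with
  | zero => simpa using hk
  | succ k ih =>
    apply ih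
    rw [pow_succ, pow_mul, pow_two] at hk
    have hmem : (((c ^ 2 ^ k : ↥(Subgroup.center ↥T)) : ↥T) : X) ∈ omZ T :=
      ⟨SetLike.coe_mem _, congrArg (fun z : ↥(Subgroup.center ↥T) => ((z : ↥T) : X)) hk,
        fun t ht => congrArg Subtype.val (Subgroup.mem_center_iff.1 (c ^ 2 ^ k).2 ⟨t, ht⟩)⟩
    rw [hbot, Subgroup.mem_bot] at hmem
    exact Subtype.ext (Subtype.ext hmem)

theorem exists_ne_one_thompson {T : Subgroup X} (hT : IsPGroup 2 T) (hne : T ≠ ⊥) :
    Cfsg.thompsonSubgroupOf 2 T ≠ ⊥ := by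
  obtain ⟨A, hA⟩ := LocalEven2.exists_isMaxEA 2 T
  exact fun h => exists_omZ_ne_one hT hne (eq_bot_iff.2
    (h ▸ (omZ_le_maxEA hA).trans (LocalEven2.le_thompsonSubgroupOf hA)))

/-- The bound on the action of a `2`-group on the normal closure of central elements. -/
theorem closure_bound [Group.IsSolvable X] (hfree : ¬ Cfsg.Involves (Equiv.Perm (Fin 4)) X) {T : Subgroup X}
    (hT : IsPGroup 2 T) (hodd : Odd T.index) {V : Subgroup X} [V.Normal] (hV : Cfsg.IsElementaryAbelian 2 V)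
    (Z : Set X) (hZV : Z ⊆ V) (hZT : ∀ z ∈ Z, ∀ t ∈ T, t * z = z * t)
    (hgen : V ≤ Subgroup.closure {v | ∃ x, ∃ z ∈ Z, v = x * z * x⁻¹})
    (R : Subgroup X) (hR : ∀ r ∈ R, r * r ∈ Subgroup.centralizer (V : Set X)) :
    ((Subgroup.centralizer (V : Set X)).relIndex R) ^ 2 ≤ (Subgroup.centralizer (R : Set X)).relIndex V := by
  classical
  haveI : Fact (Nat.Prime 2) := ⟨Nat.prime_two⟩
  obtain ⟨hVc, hV2⟩ := LocalEven2.isElementaryAbelian_iff.1 hV
  letI : CommGroup ↥V := { V.toGroup with mul_comm := fun a b => Subtype.ext (hVc a a.2 b b.2) }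
  let ρ : X →* MulAut ↥V := MulAut.conjNormal
  have hex : ∀ v : ↥V, v * v = 1 := fun v => Subtype.ext (by
    show (v : X) * v = 1
    rw [← pow_two]; exact hV2 v v.2)
  have hfixiff : ∀ (x : X) (v : ↥V), ρ x v = v ↔ x * (v : X) = v * x := fun x v => by
    rw [Subtype.ext_iff, MulAut.conjNormal_apply, mul_inv_eq_iff_eq_mul]
  have hker : ρ.ker = Subgroup.centralizer (V : Set X) := by
    ext x
    rw [MonoidHom.mem_ker, Subgroup.mem_centralizer_iff]
    constructor
    · intro h v hv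
      exact ((hfixiff x ⟨v, hv⟩).1 (by rw [h]; rfl)).symm
    · intro h
      exact MulEquiv.ext fun v => (hfixiff x v).2 (h v v.2).symm
  have hcore : Cfsg.pCore 2 ↥ρ.range = ⊥ := by
    rw [Cores.pCore_eq_bot_iff]
    intro Q hQ hQp
    haveI := hQ
    have hi : ¬ 2 ∣ T.index := fun h => Nat.not_even_iff_odd.2 hodd (even_iff_two_dvd.2 h)
    let P := (hT.toSylow hi).mapSurjective ρ.rangeRestrict_surjective
    have hQP : Q ≤ T.map ρ.rangeRestrict := by
      have h1 := (Cores.le_pCore hQ hQp).trans (Cores.pCore_le_sylow P)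
      rwa [Sylow.coe_mapSurjective] at h1
    rw [eq_bot_iff]
    intro g hg
    rw [Subgroup.mem_bot]
    refine Subtype.ext (MulEquiv.ext fun v => ?_)
    show (g : MulAut ↥V) v = v
    let F : Subgroup X :=
      { carrier := {w | ∃ hw : w ∈ V, ∀ a ∈ Q, (a : MulAut ↥V) ⟨w, hw⟩ = ⟨w, hw⟩}
        one_mem' := ⟨one_mem _, fun a _ => map_one (a : MulAut ↥V)⟩
        mul_mem' := fun {a b} ha hb => by
          obtain ⟨ha1, ha2⟩ := ha; obtain ⟨hb1, hb2⟩ := hb
          refine ⟨mul_mem ha1 hb1, fun q hq => ?_⟩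
          rw [show (⟨a * b, mul_mem ha1 hb1⟩ : ↥V) = ⟨a, ha1⟩ * ⟨b, hb1⟩ from rfl, map_mul, ha2 q hq, hb2 q hq]
        inv_mem' := fun {a} ha => by
          obtain ⟨ha1, ha2⟩ := ha
          refine ⟨inv_mem ha1, fun q hq => ?_⟩
          rw [show (⟨a⁻¹, inv_mem ha1⟩ : ↥V) = ⟨a, ha1⟩⁻¹ from rfl, map_inv, ha2 q hq] }
    have hVF : V ≤ F := hgen.trans ((Subgroup.closure_le _).2 (by
      rintro _ ⟨x, z, hz, rfl⟩
      refine ⟨Subgroup.Normal.conj_mem inferInstance z (hZV hz) x, fun a ha => ?_⟩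
      have hb : (⟨ρ x, x, rfl⟩ : ↥ρ.range)⁻¹ * a * ⟨ρ x, x, rfl⟩ ∈ Q := hQ.conj_mem' a ha _
      obtain ⟨t, ht, hte⟩ := hQP hb
      have hte' : ρ t = (ρ x)⁻¹ * (a : MulAut ↥V) * ρ x := congrArg Subtype.val hte
      have ha' : (a : MulAut ↥V) = ρ (x * t * x⁻¹) := by
        rw [map_mul, map_mul, map_inv, hte']; group
      rw [ha']
      refine (hfixiff _ _).2 ?_
      show x * t * x⁻¹ * (x * z * x⁻¹) = x * z * x⁻¹ * (x * t * x⁻¹)
      calc x * t * x⁻¹ * (x * z * x⁻¹) = x * (t * z) * x⁻¹ := by group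
        _ = x * (z * t) * x⁻¹ := by rw [hZT z hz t ht]
        _ = x * z * x⁻¹ * (x * t * x⁻¹) := by group))
    obtain ⟨_, h⟩ := hVF v.2
    exact h g hg
  have hVp : IsPGroup 2 V := fun v => ⟨1, by rw [pow_one, pow_two]; exact hex v⟩
  have hS3 := not_three_range hfree hVp ρ hker.ge
  obtain ⟨y, hy⟩ := layer_bound ρ hex hcore hS3 R (fun r hr => hker.ge (hR r hr))
  set f := fixV ρ R with hf
  set C := Subgroup.centralizer (V : Set X) with hC
  have hfeq : f = (Subgroup.centralizer (R : Set X)).subgroupOf V := by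
    ext v
    rw [Subgroup.mem_subgroupOf, Subgroup.mem_centralizer_iff]
    exact ⟨fun h r hr => (hfixiff r v).1 (h r hr), fun h r hr => (hfixiff r v).2 (h r hr)⟩
  have hcR : Nat.card R = C.relIndex R * Nat.card ↥(R ⊓ ρ.ker) := by
    have h := Subgroup.relIndex_mul_relIndex ⊥ (R ⊓ C) R bot_le inf_le_left
    rw [Subgroup.relIndex_bot_left, Subgroup.relIndex_bot_left, Subgroup.inf_relIndex_left] at h
    rw [hker, ← h, mul_comm]
  have hidx : (Subgroup.centralizer (R : Set X)).relIndex V = f.index := by rw [hfeq]; rfl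
  have h3 := hy.trans (Nat.mul_le_mul_right _ (Subgroup.card_le_card_group _))
  rw [hcR, ← f.card_mul_index] at h3
  rw [hidx]
  refine Nat.le_of_mul_le_mul_right ?_
    (Nat.mul_pos (Nat.card_pos (α := ↥f)) (Nat.pow_pos (Nat.card_pos (α := ↥(R ⊓ ρ.ker))) (n := 2)))
  calc C.relIndex R ^ 2 * (Nat.card ↥f * Nat.card ↥(R ⊓ ρ.ker) ^ 2)
      = (C.relIndex R * Nat.card ↥(R ⊓ ρ.ker)) ^ 2 * Nat.card ↥f := by ring
    _ ≤ Nat.card ↥f * f.index * Nat.card ↥(R ⊓ ρ.ker) ^ 2 := h3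
    _ = _ := by ring

/-- The factorisation of a solvable `S₄`-free group of characteristic two. -/
theorem factorisation [Group.IsSolvable X] (hfree : ¬ Cfsg.Involves (Equiv.Perm (Fin 4)) X)
    (hchar : Subgroup.centralizer (Cfsg.pCore 2 X : Set X) ≤ Cfsg.pCore 2 X) {T : Subgroup X}
    (hT : IsPGroup 2 T) (hodd : Odd T.index) :
    Subgroup.centralizer (omZ T : Set X) ⊔
      Subgroup.normalizer (Cfsg.thompsonSubgroupOf 2 T : Set X) = ⊤ := by
  classical
  haveI : Fact (Nat.Prime 2) := ⟨Nat.prime_two⟩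
  have hi : ¬ 2 ∣ T.index := fun h => Nat.not_even_iff_odd.2 hodd (even_iff_two_dvd.2 h)
  have hOT : Cfsg.pCore 2 X ≤ T := Cores.pCore_le_sylow (hT.toSylow hi)
  set O := Cfsg.pCore 2 X with hO
  set V := Subgroup.normalClosure (omZ T : Set X) with hV
  let ZO : Subgroup X := O ⊓ Subgroup.centralizer (O : Set X)
  haveI : ZO.Normal := inferInstance
  have hzZO : omZ T ≤ ZO := fun z hz => by
    have h1 : z ∈ Subgroup.centralizer (O : Set X) :=
      Subgroup.mem_centralizer_iff.2 fun o ho => hz.2.2 o (hOT ho)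
    exact ⟨hchar h1, h1⟩
  have hVZ : V ≤ ZO := Subgroup.normalClosure_le_normal hzZO
  have hVc : ∀ a ∈ V, ∀ b ∈ V, a * b = b * a := fun a ha b hb =>
    Subgroup.mem_centralizer_iff.1 (hVZ hb).2 a (hVZ ha).1
  let E : Subgroup X :=
    { carrier := {a | a ∈ V ∧ a * a = 1}
      one_mem' := ⟨one_mem _, one_mul 1⟩
      mul_mem' := fun {a b} ha hb => ⟨mul_mem ha.1 hb.1, by
        rw [show a * b * (a * b) = a * (b * a) * b by group, hVc b hb.1 a ha.1,
          show a * (a * b) * b = (a * a) * (b * b) by group, ha.2, hb.2, one_mul]⟩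
      inv_mem' := fun {a} ha => ⟨inv_mem ha.1, by rw [← mul_inv_rev, ha.2, inv_one]⟩ }
  have hgen : V ≤ Subgroup.closure {v | ∃ x, ∃ z ∈ (omZ T : Set X), v = x * z * x⁻¹} := by
    refine (Subgroup.closure_le _).2 ?_
    intro v hv
    obtain ⟨z, hz, hzv⟩ := Group.mem_conjugatesOfSet_iff.1 hv
    obtain ⟨c, rfl⟩ := isConj_iff.1 hzv
    exact Subgroup.subset_closure ⟨c, z, hz, rfl⟩
  have hVe : Cfsg.IsElementaryAbelian 2 V := by
    refine LocalEven2.isElementaryAbelian_iff.2 ⟨hVc, fun a ha => ?_⟩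
    have hVE : V ≤ E := hgen.trans ((Subgroup.closure_le _).2 (by
      rintro _ ⟨x, z, hz, rfl⟩
      refine ⟨Subgroup.Normal.conj_mem inferInstance z (Subgroup.subset_normalClosure hz) x, ?_⟩
      rw [show x * z * x⁻¹ * (x * z * x⁻¹) = x * (z * z) * x⁻¹ by group, hz.2.1, mul_one, mul_inv_cancel]))
    rw [pow_two]
    exact (hVE ha).2
  set C := Subgroup.centralizer (V : Set X) with hC
  have hJC : Cfsg.thompsonSubgroupOf 2 T ≤ C := by
    refine LocalEven2.thompsonSubgroupOf_le_of fun A hA => ?_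
    obtain ⟨hAc, hA2⟩ := LocalEven2.isElementaryAbelian_iff.1 hA.2.1
    have hb := closure_bound hfree hT hodd hVe (omZ T : Set X) Subgroup.subset_normalClosure
      (fun z hz => hz.2.2) hgen A (fun r hr => by rw [← pow_two, hA2 r hr]; exact one_mem _)
    set CA := Subgroup.centralizer (A : Set X) with hCA
    set B := (A ⊓ C) ⊔ V with hB
    have hBT : B ≤ T := sup_le (inf_le_left.trans hA.1) ((hVZ.trans inf_le_left).trans hOT)
    have hBe : Cfsg.IsElementaryAbelian 2 B := (elem_sup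
      (LocalEven2.isElementaryAbelian_iff.2 ⟨fun a ha b hb => hAc a ha.1 b hb.1, fun a ha => hA2 a ha.1⟩)
      hVe fun a ha v hv => (Subgroup.mem_centralizer_iff.1 ha.2 v hv).symm)
    have h1 := hA.2.2 B hBT hBe
    have h2 := Cores.card_sup_mul_card_inf (A ⊓ C) V
    rw [← hB] at h2
    have h3 : Nat.card ↥(A ⊓ C ⊓ V) ≤ Nat.card ↥(V ⊓ CA) := Subgroup.card_le_of_le fun x hx =>
      ⟨hx.2, Subgroup.mem_centralizer_iff.2 fun y hy => hAc y hy x hx.1.1⟩
    have hcA : Nat.card A = Nat.card ↥(A ⊓ C) * C.relIndex A := by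
      rw [← Subgroup.inf_relIndex_left A C, ← Subgroup.relIndex_bot_left, ← Subgroup.relIndex_bot_left,
        Subgroup.relIndex_mul_relIndex _ _ _ bot_le inf_le_left]
    have hcV : Nat.card V = Nat.card ↥(V ⊓ CA) * CA.relIndex V := by
      rw [← Subgroup.inf_relIndex_left V CA, ← Subgroup.relIndex_bot_left, ← Subgroup.relIndex_bot_left,
        Subgroup.relIndex_mul_relIndex _ _ _ bot_le inf_le_left]
    have h4 : CA.relIndex V ≤ C.relIndex A := by
      refine Nat.le_of_mul_le_mul_right ?_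
        (Nat.mul_pos (Nat.card_pos (α := ↥(A ⊓ C))) (Nat.card_pos (α := ↥(V ⊓ CA))))
      calc CA.relIndex V * (Nat.card ↥(A ⊓ C) * Nat.card ↥(V ⊓ CA))
          = Nat.card ↥(A ⊓ C) * Nat.card V := by rw [hcV]; ring
        _ = Nat.card B * Nat.card ↥(A ⊓ C ⊓ V) := h2.symm
        _ ≤ Nat.card A * Nat.card ↥(V ⊓ CA) := Nat.mul_le_mul h1 h3
        _ = _ := by rw [hcA]; ring
    have h0 : C.relIndex A ≠ 0 := relIdx_ne_zero
    have h5 := hb.trans h4
    refine Subgroup.relIndex_eq_one.1 (le_antisymm ?_ (Nat.one_le_iff_ne_zero.2 h0))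
    by_contra hlt
    push Not at hlt
    nlinarith
  -- Frattini
  have hp : IsPGroup 2 ↥(T.subgroupOf C) := hT.comap_subtype
  haveI : C.Normal := Subgroup.normal_centralizer
  have hiC : ¬ 2 ∣ (T.subgroupOf C).index := by
    intro h2
    have h3 : (T.subgroupOf C).index * Nat.card ↥(T.subgroupOf C) = Nat.card C := Subgroup.index_mul_card _
    have h4 : Nat.card ↥(C ⊔ T) * Nat.card ↥(T ⊓ C) = Nat.card T * Nat.card C := by
      rw [sup_comm]; exact Cores.card_sup_mul_card_inf T C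
    have h5 : Nat.card ↥(T.subgroupOf C) = Nat.card ↥(T ⊓ C) := by
      rw [← Subgroup.card_map_of_injective (f := C.subtype) C.subtype_injective,
        Subgroup.subgroupOf_map_subtype]
    rw [← h3, h5, ← mul_assoc] at h4
    have h6 : Nat.card ↥(C ⊔ T) = Nat.card T * (T.subgroupOf C).index :=
      Nat.eq_of_mul_eq_mul_right Nat.card_pos h4
    have h7 : Nat.card X = Nat.card ↥(C ⊔ T) * (C ⊔ T).index := (Subgroup.card_mul_index _).symm
    rw [h6, ← T.card_mul_index, mul_assoc] at h7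
    exact hi (Nat.eq_of_mul_eq_mul_left Nat.card_pos h7 ▸ dvd_mul_of_dvd_left h2 _)
  have hF := Sylow.normalizer_sup_eq_top (hp.toSylow hiC)
  rw [show ((hp.toSylow hiC : Sylow 2 ↥C) : Subgroup ↥C).map C.subtype = T ⊓ C from
    Subgroup.subgroupOf_map_subtype T C] at hF
  rw [eq_top_iff, ← hF]
  refine sup_le (le_trans ?_ le_sup_right) (le_trans ?_ le_sup_left)
  · refine (LocalEven2.normalizer_le_normalizer_thompson 2 _).trans ?_
    rw [LocalEven2.thompsonSubgroupOf_eq_of_between (le_inf (LocalEven2.thompsonSubgroupOf_le 2 T) hJC)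
      inf_le_left]
  · exact Subgroup.centralizer_le Subgroup.subset_normalClosure

end Module

end Cfsg.Agent.Lib.SFourLocal
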