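import Mathlib
import Cfsg.Agent.Lib.Cores.Basic
import Cfsg.Agent.Lib.Cores.PCore

/-!
Dihedral systems of automorphisms of an elementary abelian `2`-group: the moved part is large.
-/

set_option autoImplicit false

namespace Cfsg.Agent.Lib.SFourLocal

universe u

variable {V : Type u} [CommGroup V] [Finite V]

/-- An involution inverting an automorphism of prime order at least five. -/
structure IsPair (q : MulAut V × MulAut V) : Prop where
  sq : q.1 * q.1 = 1
  inv : q.1 * q.2 * q.1⁻¹ = q.2⁻¹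
  prime : (orderOf q.2).Prime
  five : 5 ≤ orderOf q.2

/-- Two pairs commute. -/
def PairComm (a b : MulAut V × MulAut V) : Prop :=
  Commute a.1 b.1 ∧ Commute a.1 b.2 ∧ Commute a.2 b.1 ∧ Commute a.2 b.2

/-- Common fixed points of the first components. -/
def fixS (V0 : Subgroup V) (l : List (MulAut V × MulAut V)) : Subgroup V where
  carrier := {v | v ∈ V0 ∧ ∀ q ∈ l, q.1 v = v}
  one_mem' := ⟨one_mem _, fun q _ => map_one _⟩
  mul_mem' ha hb := ⟨mul_mem ha.1 hb.1, fun q hq => by rw [map_mul, ha.2 q hq, hb.2 q hq]⟩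
  inv_mem' ha := ⟨inv_mem ha.1, fun q hq => by rw [map_inv, ha.2 q hq]⟩

/-- The moved part. -/
def comS (V0 : Subgroup V) (l : List (MulAut V × MulAut V)) : Subgroup V :=
  Subgroup.closure {w | ∃ q ∈ l, ∃ v ∈ V0, w = v * q.1 v}

/-- The product of the second components. -/
def prodX (l : List (MulAut V × MulAut V)) : MulAut V :=
  (l.map Prod.snd).prod

theorem comm_apply {a b : MulAut V} (h : Commute a b) (v : V) : a (b v) = b (a v) :=
  DFunLike.congr_fun h.eq v

theorem eq_one_of_fix_sq {x : MulAut V} (hodd : Odd (orderOf x)) {v : V} (h : x (x v) = v) :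
    x v = v := by
  have hst : x ^ 2 ∈ MulAction.stabilizer (MulAut V) v := by
    rw [MulAction.mem_stabilizer_iff, pow_two]; exact h
  obtain ⟨k, hk⟩ := hodd
  have : x ∈ MulAction.stabilizer (MulAut V) v := by
    have h1 := pow_mem hst (k + 1)
    rwa [← pow_mul, show 2 * (k + 1) = orderOf x + 1 by omega, pow_succ, pow_orderOf_eq_one, one_mul] at h1
  exact MulAction.mem_stabilizer_iff.1 this

theorem mul_self_iff (hex : ∀ v : V, v * v = 1) {a b : V} : a * b = 1 ↔ a = b := by
  constructor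
  · intro h; exact mul_right_cancel (h.trans (hex b).symm)
  · rintro rfl; exact hex a

theorem prodX_comm {t : MulAut V} {l : List (MulAut V × MulAut V)} (h : ∀ q ∈ l, Commute t q.2) :
    Commute t (prodX l) := by
  refine Commute.list_prod_right _ _ ?_
  intro y hy
  obtain ⟨q, hq, rfl⟩ := List.mem_map.1 hy
  exact h q hq

theorem prodX_mem {V0 : Subgroup V} {l : List (MulAut V × MulAut V)}
    (h : ∀ q ∈ l, ∀ v ∈ V0, q.2 v ∈ V0) : ∀ v ∈ V0, prodX l v ∈ V0 := by
  induction l with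
  | nil => intro v hv; exact hv
  | cons q l ih =>
    intro v hv
    show (q.2 * prodX l) v ∈ V0
    rw [MulAut.mul_apply]
    exact h q List.mem_cons_self _ (ih (fun r hr => h r (List.mem_cons_of_mem _ hr)) v hv)

/-- Cardinalities in a finite abelian group. -/
theorem card_sup_inf (A B : Subgroup V) :
    Nat.card ↥(A ⊔ B) * Nat.card ↥(A ⊓ B) = Nat.card A * Nat.card B :=
  Cores.card_sup_mul_card_inf A B

theorem sys_bound (hex : ∀ v : V, v * v = 1) :
    ∀ (l : List (MulAut V × MulAut V)) (V0 : Subgroup V),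
      (∀ q ∈ l, IsPair q) → l.Pairwise PairComm →
      (∀ q ∈ l, ∀ v ∈ V0, q.1 v ∈ V0 ∧ q.2 v ∈ V0) →
      (∀ q ∈ l, ∃ v ∈ V0, q.2 v ≠ v) →
      4 ^ l.length * Nat.card ↥(fixS V0 l) ≤
        Nat.card ↥(fixS V0 l ⊔ (comS V0 l).map (prodX l).toMonoidHom) := by
  intro l
  induction l with
  | nil =>
    intro V0 _ _ _ _
    rw [List.length_nil, pow_zero, one_mul]
    exact Subgroup.card_le_of_le le_sup_left
  | cons q l ih =>
    intro V0 hpair hcomm hinv hne
    obtain ⟨t, x⟩ := q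
    obtain ⟨hc0, hcl⟩ := List.pairwise_cons.1 hcomm
    have hp := hpair _ List.mem_cons_self
    have hodd : Odd (orderOf x) := hp.prime.odd_of_ne_two (by have := hp.five; simp only at this ⊢; omega)
    have hpr : (orderOf x).Prime := hp.prime
    have htt : ∀ v, t (t v) = v := fun v => DFunLike.congr_fun hp.sq v
    have hxi : ∀ v, t (x v) = x⁻¹ (t v) := fun v => by
      have h := DFunLike.congr_fun hp.inv (t v)
      simp only [MulAut.mul_apply, MulAut.inv_apply_self] at h
      exact h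
    have hxV : ∀ v ∈ V0, x v ∈ V0 := fun v hv => (hinv _ List.mem_cons_self v hv).2
    have htV : ∀ v ∈ V0, t v ∈ V0 := fun v hv => (hinv _ List.mem_cons_self v hv).1
    have hxiV : ∀ v ∈ V0, x⁻¹ v ∈ V0 := by
      intro v hv
      have : ∀ n : ℕ, (x ^ n) v ∈ V0 := by
        intro n
        induction n with
        | zero => exact hv
        | succ n ihn => rw [pow_succ', MulAut.mul_apply]; exact hxV _ ihn
      have h1 := this (orderOf x - 1)
      rwa [show x ^ (orderOf x - 1) = x⁻¹ from eq_inv_of_mul_eq_one_left (by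
        rw [← pow_succ, Nat.sub_add_cancel hp.prime.one_lt.le, pow_orderOf_eq_one])] at h1
    -- the moved part of `x` and its fixed part
    set f : ↥V0 →* V :=
      { toFun := fun v => (v : V) * x v
        map_one' := by simp
        map_mul' := fun a b => by simp only [Subgroup.coe_mul, map_mul]; exact mul_mul_mul_comm _ _ _ _ } with hf
    set M1 := f.range with hM1
    have hM1V : ∀ m ∈ M1, m ∈ V0 := by rintro _ ⟨v, rfl⟩; exact mul_mem v.2 (hxV v v.2)
    have hdisj : ∀ m ∈ M1, x m = m → m = 1 := by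
      rintro _ ⟨v, rfl⟩ h
      change x ((v : V) * x v) = v * x v at h
      rw [map_mul, mul_comm (v : V)] at h
      have h2 := eq_one_of_fix_sq hodd (mul_left_cancel h)
      show (v : V) * x v = 1
      rw [h2, hex]
    have hM1x : ∀ m ∈ M1, x m ∈ M1 := by
      rintro _ ⟨v, rfl⟩
      exact ⟨⟨x v, hxV v v.2⟩, (map_mul x _ _).symm⟩
    have hM1xi : ∀ m ∈ M1, x⁻¹ m ∈ M1 := by
      rintro _ ⟨v, rfl⟩
      refine ⟨⟨x⁻¹ v, hxiV v v.2⟩, ?_⟩
      show x⁻¹ (v : V) * x (x⁻¹ v) = x⁻¹ ((v : V) * x v)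
      rw [map_mul, MulAut.apply_inv_self, MulAut.inv_apply_self]
    have hM1t : ∀ m ∈ M1, t m ∈ M1 := by
      rintro _ ⟨v, rfl⟩
      refine ⟨⟨x⁻¹ (t v), hxiV _ (htV v v.2)⟩, ?_⟩
      show x⁻¹ (t v) * x (x⁻¹ (t v)) = t ((v : V) * x v)
      rw [map_mul, hxi, MulAut.apply_inv_self, mul_comm]
    have hlx : ∀ r ∈ l, ∀ v, r.1 (x v) = x (r.1 v) ∧ r.2 (x v) = x (r.2 v) := fun r hr v =>
      ⟨(comm_apply (hc0 r hr).2.2.1 v).symm, (comm_apply (hc0 r hr).2.2.2 v).symm⟩
    have hlt : ∀ r ∈ l, ∀ v, r.1 (t v) = t (r.1 v) ∧ r.2 (t v) = t (r.2 v) := fun r hr v =>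
      ⟨(comm_apply (hc0 r hr).1 v).symm, (comm_apply (hc0 r hr).2.1 v).symm⟩
    have hinvl : ∀ r ∈ l, ∀ v ∈ V0, r.1 v ∈ V0 ∧ r.2 v ∈ V0 := fun r hr =>
      hinv r (List.mem_cons_of_mem _ hr)
    have hM1l : ∀ r ∈ l, ∀ m ∈ M1, r.1 m ∈ M1 ∧ r.2 m ∈ M1 := by
      rintro r hr _ ⟨v, rfl⟩
      exact ⟨⟨⟨r.1 v, (hinvl r hr v v.2).1⟩, show r.1 (v : V) * x (r.1 v) = r.1 ((v : V) * x v) by
          rw [map_mul, (hlx r hr _).1]⟩,
        ⟨⟨r.2 v, (hinvl r hr v v.2).2⟩, show r.2 (v : V) * x (r.2 v) = r.2 ((v : V) * x v) by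
          rw [map_mul, (hlx r hr _).2]⟩⟩
    -- `V0 = M1 C(x)`
    have hdec : ∀ v ∈ V0, ∃ m ∈ M1, x (v * m) = v * m := by
      intro v hv
      let g : ↥M1 → ↥M1 := fun m => ⟨(m : V) * x m, mul_mem m.2 (hM1x _ m.2)⟩
      have hg : Function.Injective g := by
        intro a b h
        have h1 : (a : V) * x a = b * x b := congrArg Subtype.val h
        have h2 : ((a : V) * b) * x ((a : V) * b) = 1 := by
          rw [map_mul, mul_mul_mul_comm, h1, hex]
        have h3 := hdisj _ (mul_mem a.2 b.2) ((mul_self_iff hex).1 h2).symm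
        exact Subtype.ext ((mul_self_iff hex).1 h3)
      obtain ⟨m, hm⟩ := (Finite.injective_iff_surjective.1 hg) ⟨v * x v, ⟨⟨v, hv⟩, rfl⟩⟩
      have hm' : (m : V) * x m = v * x v := congrArg Subtype.val hm
      refine ⟨m, m.2, ?_⟩
      have h4 : (v * (m : V)) * x (v * m) = 1 := by rw [map_mul, mul_mul_mul_comm, hm', hex]
      exact ((mul_self_iff hex).1 h4).symm
    -- the fixed points of `t` on the moved part
    set U := fixS M1 [(t, x)] with hU
    have memU : ∀ {v}, v ∈ U ↔ v ∈ M1 ∧ t v = v := fun {v} =>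
      ⟨fun h => ⟨h.1, h.2 _ List.mem_cons_self⟩, fun h => ⟨h.1, fun q hq => by
        rw [List.mem_singleton] at hq; rw [hq]; exact h.2⟩⟩
    have hUinj : ∀ u ∈ U, x u = x⁻¹ u → u = 1 := by
      intro u hu h
      have h2 : x (x u) = u := by rw [h, MulAut.apply_inv_self]
      exact hdisj u (memU.1 hu).1 (eq_one_of_fix_sq hodd h2)
    have hcU : ∀ u ∈ U, x u * x⁻¹ u ∈ U := fun u hu => by
      obtain ⟨h1, h2⟩ := memU.1 hu
      refine memU.2 ⟨mul_mem (hM1x _ h1) (hM1xi _ h1), ?_⟩
      have e : t (x⁻¹ u) = x u := by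
        have := hxi (x⁻¹ u)
        rw [MulAut.apply_inv_self, h2] at this
        conv_rhs => rw [this, MulAut.apply_inv_self]
      rw [map_mul, hxi, h2, e, mul_comm]
    have hcsurj : ∀ w ∈ U, ∃ u ∈ U, x u * x⁻¹ u = w := by
      intro w hw
      let g : ↥U → ↥U := fun u => ⟨x (u : V) * x⁻¹ (u : V), hcU _ u.2⟩
      have hg : Function.Injective g := by
        intro a b h
        have h1 : x (a : V) * x⁻¹ (a : V) = x b * x⁻¹ (b : V) := congrArg Subtype.val h
        have h2 : x ((a : V) * b) * x⁻¹ ((a : V) * b) = 1 := by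
          rw [map_mul, map_mul, mul_mul_mul_comm, h1, hex]
        have h3 := hUinj _ (mul_mem a.2 b.2) ((mul_self_iff hex).1 h2)
        exact Subtype.ext ((mul_self_iff hex).1 h3)
      obtain ⟨u, hu⟩ := (Finite.injective_iff_surjective.1 hg) ⟨w, hw⟩
      exact ⟨u, u.2, congrArg Subtype.val hu⟩
    -- `M1 = U * x U`
    have hM1dec : ∀ m ∈ M1, ∃ a ∈ U, ∃ b ∈ U, m = a * x b := by
      intro m hm
      have h1 : m * t m ∈ U := memU.2 ⟨mul_mem hm (hM1t m hm), by rw [map_mul, htt, mul_comm]⟩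
      obtain ⟨b, hb, hbe⟩ := hcsurj _ h1
      refine ⟨m * x b, memU.2 ⟨mul_mem hm (hM1x _ (memU.1 hb).1), ?_⟩, b, hb, by rw [mul_assoc, hex, mul_one]⟩
      refine ((mul_self_iff hex).1 ?_).symm
      rw [map_mul, hxi, (memU.1 hb).2, mul_mul_mul_comm, hbe, hex]
    -- the smaller module
    set C : Subgroup V :=
      { carrier := {v | v ∈ V0 ∧ x v = v}
        one_mem' := ⟨one_mem _, map_one _⟩
        mul_mem' := fun ha hb => ⟨mul_mem ha.1 hb.1, by rw [map_mul, ha.2, hb.2]⟩
        inv_mem' := fun ha => ⟨inv_mem ha.1, by rw [map_inv, ha.2]⟩ } with hC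
    have memC : ∀ {v}, v ∈ C ↔ v ∈ V0 ∧ x v = v := Iff.rfl
    have hCt : ∀ c ∈ C, t c ∈ C := fun c hc => by
      refine memC.2 ⟨htV _ hc.1, ?_⟩
      have h1 := congrArg (⇑x) (hxi c)
      rw [MulAut.apply_inv_self, hc.2] at h1
      exact h1
    set V' := U ⊔ C with hV'
    have hUV : U ≤ V0 := fun u hu => hM1V _ (memU.1 hu).1
    have hV'V : V' ≤ V0 := sup_le hUV fun c hc => hc.1
    have hV'inv : ∀ r ∈ l, ∀ v ∈ V', r.1 v ∈ V' ∧ r.2 v ∈ V' := by
      intro r hr v hv
      obtain ⟨a, ha, c, hc, rfl⟩ := Subgroup.mem_sup.1 hv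
      obtain ⟨ha1, ha2⟩ := memU.1 ha
      rw [map_mul, map_mul]
      exact ⟨Subgroup.mul_mem_sup (memU.2 ⟨(hM1l r hr a ha1).1, by rw [← (hlt r hr a).1, ha2]⟩)
          (memC.2 ⟨(hinvl r hr c hc.1).1, by rw [← (hlx r hr c).1, hc.2]⟩),
        Subgroup.mul_mem_sup (memU.2 ⟨(hM1l r hr a ha1).2, by rw [← (hlt r hr a).2, ha2]⟩)
          (memC.2 ⟨(hinvl r hr c hc.1).2, by rw [← (hlx r hr c).2, hc.2]⟩)⟩
    have hne' : ∀ r ∈ l, ∃ v ∈ V', r.2 v ≠ v := by
      intro r hr
      by_contra hall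
      push Not at hall
      obtain ⟨v, hv, hvne⟩ := hne r (List.mem_cons_of_mem _ hr)
      obtain ⟨m, hm, hmx⟩ := hdec v hv
      obtain ⟨a, ha, b, hb, rfl⟩ := hM1dec m hm
      have h1 : r.2 (v * (a * x b)) = v * (a * x b) :=
        hall _ (Subgroup.mem_sup_right (memC.2 ⟨mul_mem hv (hM1V _ hm), hmx⟩))
      have h2 : r.2 (a * x b) = a * x b := by
        rw [map_mul, hall a (Subgroup.mem_sup_left ha), (hlx r hr b).2, hall b (Subgroup.mem_sup_left hb)]
      rw [map_mul, h2] at h1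
      exact hvne (mul_right_cancel h1)
    have hIH := ih V' (fun r hr => hpair r (List.mem_cons_of_mem _ hr)) hcl hV'inv hne'
    -- the size of `U`
    have hU4 : 4 ≤ Nat.card U := by
      classical
      obtain ⟨v, hv, hvne⟩ := hne _ List.mem_cons_self
      have hm0 : v * x v ∈ M1 := ⟨⟨v, hv⟩, rfl⟩
      have hm01 : v * x v ≠ 1 := fun h => hvne ((mul_self_iff hex).1 h).symm
      set m := v * x v with hm
      have horb : ∀ k, (x ^ k) m ∈ M1 := by
        intro k
        induction k with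
        | zero => exact hm0
        | succ k ihk => rw [pow_succ', MulAut.mul_apply]; exact hM1x _ ihk
      have hfree : ∀ i j : ℕ, i < orderOf x → j < orderOf x → (x ^ i) m = (x ^ j) m → i = j := by
        intro i j hi hj hij
        by_contra hne
        wlog hlt : i < j generalizing i j
        · exact this j i hj hi hij.symm (Ne.symm hne) (by omega)
        have h2 : (x ^ (j - i)) m = m := by
          apply (x ^ i).injective
          rw [← MulAut.mul_apply, ← pow_add, Nat.add_sub_cancel' hlt.le]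
          exact hij.symm
        have hst : x ∈ MulAction.stabilizer (MulAut V) m := by
          have hd : x ^ (j - i) ∈ MulAction.stabilizer (MulAut V) m := h2
          have hcop : (j - i).Coprime (orderOf x) := ((hpr.coprime_iff_not_dvd).2
            (Nat.not_dvd_of_pos_of_lt (by omega) (by omega))).symm
          obtain ⟨k, hk⟩ := exists_pow_eq_self_of_coprime hcop
          rw [← hk]
          exact pow_mem hd k
        exact hm01 (hdisj m hm0 hst)
      have hcard : 6 ≤ Nat.card M1 := by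
        have hinj : Function.Injective (fun i : Option (Fin (orderOf x)) =>
            (i.elim (1 : ↥M1) fun k => ⟨(x ^ (k : ℕ)) m, horb k⟩)) := by
          rintro (_ | i) (_ | j) h
          · rfl
          · exfalso
            have h' : (x ^ (j : ℕ)) m = 1 := (congrArg Subtype.val h).symm
            exact hm01 ((x ^ (j : ℕ)).injective (h'.trans (map_one _).symm))
          · exfalso
            have h' : (x ^ (i : ℕ)) m = 1 := congrArg Subtype.val h
            exact hm01 ((x ^ (i : ℕ)).injective (h'.trans (map_one _).symm))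
          · exact congrArg some (Fin.ext (hfree i j i.2 j.2 (congrArg Subtype.val h)))
        have := Nat.card_le_card_of_injective _ hinj
        rw [Nat.card_eq_fintype_card, Fintype.card_option, Fintype.card_fin] at this
        have := hp.five
        simp only at this ⊢
        omega
      have hsq : Nat.card M1 ≤ Nat.card U * Nat.card U := by
        rw [← Nat.card_prod]
        refine Nat.card_le_card_of_surjective (fun p : ↥U × ↥U =>
          (⟨(p.1 : V) * x p.2, mul_mem (memU.1 p.1.2).1 (hM1x _ (memU.1 p.2.2).1)⟩ : ↥M1)) ?_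
        rintro ⟨w, hw⟩
        obtain ⟨a, ha, b, hb, rfl⟩ := hM1dec w hw
        exact ⟨(⟨a, ha⟩, ⟨b, hb⟩), rfl⟩
      have hpow : IsPGroup 2 ↥U := fun a => ⟨1, Subtype.ext (by simpa [pow_two] using hex (a : V))⟩
      haveI : Fact (Nat.Prime 2) := ⟨Nat.prime_two⟩
      obtain ⟨n, hn⟩ := IsPGroup.iff_card.1 hpow
      match n with
      | 0 => rw [hn, pow_zero] at hsq; omega
      | 1 => rw [hn, pow_one] at hsq; omega
      | n + 2 => rw [hn, pow_add]; have := Nat.one_le_two_pow (n := n); omega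
    -- counting
    set y := prodX l with hy
    have hxy : prodX ((t, x) :: l) = x * y := rfl
    set N := (comS V0 ((t, x) :: l)).map (prodX ((t, x) :: l)).toMonoidHom with hN
    set XU := U.map x.toMonoidHom with hXU
    have hyU : ∀ u ∈ U, y u ∈ U := prodX_mem (l := l) fun r hr u hu => by
      obtain ⟨h1, h2⟩ := memU.1 hu
      exact memU.2 ⟨(hM1l r hr u h1).2, by rw [← (hlt r hr u).2, h2]⟩
    have hNmem : ∀ r ∈ (t, x) :: l, ∀ v ∈ V0, x (y (v * r.1 v)) ∈ N := fun r hr v hv =>
      ⟨v * r.1 v, Subgroup.subset_closure ⟨r, hr, v, hv, rfl⟩, rfl⟩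
    have hXUN : XU ≤ N := by
      rintro _ ⟨u, hu, rfl⟩
      let g : ↥U → ↥U := fun a => ⟨y (a : V), hyU _ a.2⟩
      obtain ⟨u0, hu0⟩ := (Finite.injective_iff_surjective.1
        (fun a b h => Subtype.ext (y.injective (congrArg Subtype.val h)) : Function.Injective g)) ⟨u, hu⟩
      obtain ⟨u1, hu1, hu1e⟩ := hcsurj _ u0.2
      have h := hNmem (t, x) List.mem_cons_self (x u1) (hxV _ (hUV hu1))
      simp only [hxi, (memU.1 hu1).2, hu1e] at h
      rwa [show y (u0 : V) = u from congrArg Subtype.val hu0] at h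
    have hsub : (comS V' l).map y.toMonoidHom ≤ N := by
      rw [Subgroup.map_le_iff_le_comap, comS, Subgroup.closure_le]
      rintro _ ⟨r, hr, v, hv, rfl⟩
      show y (v * r.1 v) ∈ N
      obtain ⟨a, ha, c, hc, rfl⟩ := Subgroup.mem_sup.1 hv
      have hcpart : y (c * r.1 c) ∈ N := by
        have h := hNmem r (List.mem_cons_of_mem _ hr) c hc.1
        have e : x (y (c * r.1 c)) = y (c * r.1 c) := by
          have hcm : Commute x y := prodX_comm fun s hs => (hc0 s hs).2.2.2
          rw [comm_apply hcm, map_mul x, hc.2, (hlx r hr c).1.symm, hc.2]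
        rwa [e] at h
      have hapart : y (a * r.1 a) ∈ N := by
        obtain ⟨ha1, ha2⟩ := memU.1 ha
        set w := y (a * r.1 a) with hw
        have hwU : w ∈ U := hyU _ (mul_mem ha (memU.2 ⟨(hM1l r hr a ha1).1, by rw [← (hlt r hr a).1, ha2]⟩))
        have h := hNmem r (List.mem_cons_of_mem _ hr) (x a) (hxV _ (hUV ha))
        have hcm : Commute x y := prodX_comm fun s hs => (hc0 s hs).2.2.2
        rw [(hlx r hr a).1, ← map_mul, ← comm_apply hcm, ← hw] at h
        have h2 : x (x w * x⁻¹ w) ∈ N := hXUN ⟨_, hcU w hwU, rfl⟩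
        have e : x (x w) * x (x w * x⁻¹ w) = w := by
          rw [map_mul x (x w), MulAut.apply_inv_self, ← mul_assoc, hex, one_mul]
        rw [← e]
        exact mul_mem h h2
      rw [map_mul r.1, mul_mul_mul_comm, map_mul y]
      exact mul_mem hapart hcpart
    set A := fixS V0 ((t, x) :: l) with hA
    set A' := fixS V' l with hA'
    have hAA' : A ≤ A' := by
      intro v hv
      refine ⟨?_, fun r hr => hv.2 r (List.mem_cons_of_mem _ hr)⟩
      obtain ⟨m, hm, hmx⟩ := hdec v hv.1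
      have htv : t v = v := hv.2 _ List.mem_cons_self
      have hcC : v * m ∈ C := memC.2 ⟨mul_mem hv.1 (hM1V _ hm), hmx⟩
      have h1 : m * t m = (v * m) * t (v * m) := by
        rw [map_mul, htv, mul_mul_mul_comm, hex, one_mul]
      have h2 : m * t m ∈ C := h1 ▸ mul_mem hcC (hCt _ hcC)
      have h3 := hdisj _ (mul_mem hm (hM1t m hm)) h2.2
      have hmU : m ∈ U := memU.2 ⟨hm, ((mul_self_iff hex).1 h3).symm⟩
      rw [show v = m * (v * m) by rw [mul_comm v, ← mul_assoc, hex, one_mul]]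
      exact Subgroup.mul_mem_sup hmU hcC
    have hP : A' ⊔ (comS V' l).map y.toMonoidHom ≤ V' := by
      refine sup_le (fun v hv => hv.1) ?_
      rw [Subgroup.map_le_iff_le_comap, comS, Subgroup.closure_le]
      rintro _ ⟨r, hr, v, hv, rfl⟩
      exact prodX_mem (fun s hs w hw => (hV'inv s hs w hw).2) _ (mul_mem hv (hV'inv r hr v hv).1)
    have hXUV' : XU ⊓ V' = ⊥ := by
      rw [eq_bot_iff]
      rintro _ ⟨⟨u, hu, rfl⟩, hv⟩
      rw [Subgroup.mem_bot]
      show x u = 1
      obtain ⟨a, ha, c, hc, hac⟩ := Subgroup.mem_sup.1 hv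
      have hac' : a * c = x u := hac
      have hm : a * x u ∈ M1 := mul_mem (memU.1 ha).1 (hM1x _ (memU.1 hu).1)
      have hcm : c = a * x u := by rw [← hac', ← mul_assoc, hex, one_mul]
      have hc1 : c = 1 := hdisj c (hcm ▸ hm) hc.2
      rw [hc1, mul_one] at hac'
      have h5 : x u = x⁻¹ u := by
        have := congrArg (⇑t) hac'
        rwa [(memU.1 ha).2, hxi, (memU.1 hu).2, hac'] at this
      rw [hUinj u hu h5, map_one]
    have hbig : XU ⊔ (A' ⊔ (comS V' l).map y.toMonoidHom) ≤ A' ⊔ N :=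
      sup_le (hXUN.trans le_sup_right) (sup_le le_sup_left (hsub.trans le_sup_right))
    set P := A' ⊔ (comS V' l).map y.toMonoidHom with hPdef
    have hcard1 : Nat.card ↥(XU ⊔ P) = Nat.card U * Nat.card P := by
      have h := card_sup_inf XU P
      have : XU ⊓ P = ⊥ := le_bot_iff.1 (hXUV' ▸ inf_le_inf_left _ hP)
      rw [this, Subgroup.card_bot, mul_one] at h
      rw [h, hXU, Subgroup.card_map_of_injective x.injective]
    have h4 : 4 ^ (l.length + 1) * Nat.card A' ≤ Nat.card ↥(A' ⊔ N) := by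
      refine le_trans ?_ (Subgroup.card_le_of_le hbig)
      rw [hcard1, pow_succ, mul_comm (4 ^ l.length), mul_assoc]
      exact Nat.mul_le_mul hU4 hIH
    have e1 := card_sup_inf A' N
    have e2 := card_sup_inf A N
    have hle : Nat.card ↥(A ⊓ N) ≤ Nat.card ↥(A' ⊓ N) := Subgroup.card_le_of_le (inf_le_inf_right _ hAA')
    have hpos : 0 < Nat.card A' * Nat.card ↥(A' ⊓ N) := Nat.mul_pos Nat.card_pos Nat.card_pos
    rw [List.length_cons]
    refine Nat.le_of_mul_le_mul_right ?_ hpos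
    calc 4 ^ (l.length + 1) * Nat.card A * (Nat.card A' * Nat.card ↥(A' ⊓ N))
        = (4 ^ (l.length + 1) * Nat.card A') * (Nat.card A * Nat.card ↥(A' ⊓ N)) := by ring
      _ ≤ Nat.card ↥(A' ⊔ N) * (Nat.card A * Nat.card ↥(A' ⊓ N)) := Nat.mul_le_mul_right _ h4
      _ = Nat.card A' * (Nat.card A * Nat.card N) := by rw [← mul_assoc, mul_comm (Nat.card ↥(A' ⊔ N)), mul_assoc, e1]; ring
      _ = Nat.card A' * (Nat.card ↥(A ⊔ N) * Nat.card ↥(A ⊓ N)) := by rw [e2]
      _ ≤ Nat.card A' * (Nat.card ↥(A ⊔ N) * Nat.card ↥(A' ⊓ N)) :=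
          Nat.mul_le_mul_left _ (Nat.mul_le_mul_left _ hle)
      _ = Nat.card ↥(A ⊔ N) * (Nat.card A' * Nat.card ↥(A' ⊓ N)) := by ring

end Cfsg.Agent.Lib.SFourLocal
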