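import Mathlib
import Cfsg.Agent.Lib.SFourLocal.Bound
import Cfsg.Agent.Lib.Cores.Fitting

/-!
Dihedral systems for an elementary abelian `2`-group acting on a nilpotent group of odd order.
-/

set_option autoImplicit false
set_option linter.style.haveILetI false

namespace Cfsg.Agent.Lib.SFourLocal

universe u

section
variable {H : Type u} [Group H] [Finite H]

/-- An element inverted by `t` and its square root. -/
theorem exists_fix_mul {F : Subgroup H} (hF : Odd (Nat.card F)) {t f : H} (ht : t * t = 1) (hf : f ∈ F)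
    (htf : t * f * t ∈ F) :
    ∃ u ∈ Subgroup.zpowers (f⁻¹ * (t * f * t)), t * u * t = u⁻¹ ∧ t * (f * u) * t = f * u := by
  set h := f⁻¹ * (t * f * t) with hh
  have hth : t * h * t = h⁻¹ := by
    have hti : t⁻¹ = t := inv_eq_of_mul_eq_one_right ht
    rw [hh, mul_inv_rev, mul_inv_rev, mul_inv_rev, hti, inv_inv]
    calc t * (f⁻¹ * (t * f * t)) * t = t * f⁻¹ * t * f * (t * t) := by group
      _ = t * (f⁻¹ * t) * f := by rw [ht]; group
  obtain ⟨k, hk⟩ : Odd (orderOf h) := hF.of_dvd_nat (Subgroup.orderOf_dvd_natCard F (mul_mem (inv_mem hf) htf))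
  refine ⟨h ^ (k + 1), Subgroup.pow_mem _ (Subgroup.mem_zpowers h) _, ?_, ?_⟩
  · have hti : t⁻¹ = t := inv_eq_of_mul_eq_one_right ht
    calc t * h ^ (k + 1) * t = t * h ^ (k + 1) * t⁻¹ := by rw [hti]
      _ = (t * h * t⁻¹) ^ (k + 1) := (conj_pow).symm
      _ = (h ^ (k + 1))⁻¹ := by rw [hti, hth, inv_pow]
  · have hti : t⁻¹ = t := inv_eq_of_mul_eq_one_right ht
    have h2 : h ^ (k + 1) * h ^ (k + 1) = h := by
      rw [← pow_add, show k + 1 + (k + 1) = orderOf h + 1 by omega, pow_succ, pow_orderOf_eq_one, one_mul]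
    have h3 : t * h ^ (k + 1) * t = (h ^ (k + 1))⁻¹ := by
      calc t * h ^ (k + 1) * t = t * h ^ (k + 1) * t⁻¹ := by rw [hti]
        _ = (t * h * t⁻¹) ^ (k + 1) := (conj_pow).symm
        _ = (h ^ (k + 1))⁻¹ := by rw [hti, hth, inv_pow]
    calc t * (f * h ^ (k + 1)) * t = (t * f * t) * (t * t)⁻¹ * (t * h ^ (k + 1) * t) := by
          rw [ht, inv_one, mul_one]
          calc t * (f * h ^ (k + 1)) * t = t * f * (t * t) * h ^ (k + 1) * t := by rw [ht]; group
            _ = t * f * t * (t * h ^ (k + 1) * t) := by group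
      _ = f * h * (h ^ (k + 1))⁻¹ := by rw [ht, h3, inv_one, mul_one, hh]; group
      _ = f * h ^ (k + 1) := by
          nth_rw 1 [← h2]
          group

theorem eq_one_of_fix_inverted {F : Subgroup H} (hF : Odd (Nat.card F)) {t f : H} (hf : f ∈ F)
    (h1 : t * f * t = f) (h2 : t * f * t = f⁻¹) : f = 1 := by
  obtain ⟨k, hk⟩ : Odd (orderOf f) := hF.of_dvd_nat (Subgroup.orderOf_dvd_natCard F hf)
  have h3 : f ^ 2 = 1 := by rw [pow_two]; nth_rw 1 [← h1]; rw [h2, inv_mul_cancel]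
  have h4 := pow_orderOf_eq_one f
  rw [hk, pow_succ, pow_mul, h3, one_pow, one_mul] at h4
  exact h4

/-- A four-group on a nilpotent group of odd order: the fixed points of two involutions generate. -/
theorem le_centralizer_of_four {F : Subgroup H} (hF : Odd (Nat.card F)) (hnil : Group.IsNilpotent ↥F)
    {t r : H} (ht : t * t = 1) (hr : r * r = 1) (htr : t * r = r * t)
    (hnt : ∀ f ∈ F, t * f * t ∈ F) (hnr : ∀ f ∈ F, r * f * r ∈ F)
    (h1 : ∀ f ∈ F, r * f * r = f → t * f * t = f)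
    (h2 : ∀ f ∈ F, (t * r) * f * (t * r) = f → t * f * t = f) : ∀ f ∈ F, t * f * t = f := by
  have hti : t⁻¹ = t := inv_eq_of_mul_eq_one_right ht
  have hri : r⁻¹ = r := inv_eq_of_mul_eq_one_right hr
  let F0 : Subgroup ↥F :=
    { carrier := {f | t * (f : H) * t = f}
      one_mem' := by simp [ht]
      mul_mem' := fun {a b} ha hb => by
        show t * ((a : H) * b) * t = a * b
        calc t * ((a : H) * b) * t = t * a * (t * t) * b * t := by rw [ht]; group
          _ = (t * a * t) * (t * b * t) := by group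
          _ = a * b := by rw [ha, hb]
      inv_mem' := fun {a} ha => by
        show t * (a : H)⁻¹ * t = (a : H)⁻¹
        conv_rhs => rw [← show t * (a : H) * t = a from ha]
        rw [mul_inv_rev, mul_inv_rev, hti]; group }
  suffices F0 = ⊤ by
    intro f hf
    exact (show (⟨f, hf⟩ : ↥F) ∈ F0 from this ▸ Subgroup.mem_top _)
  by_contra hne
  have hlt : F0 < Subgroup.normalizer (F0 : Set ↥F) :=
    Group.normalizerCondition_of_isNilpotent F0 (lt_top_iff_ne_top.2 hne)
  obtain ⟨⟨f, hfF⟩, hfN, hfF0⟩ := SetLike.exists_of_lt hlt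
  apply hfF0
  have hN := Subgroup.mem_normalizer_iff.1 hfN
  -- the conjugates of `F0`
  have hr0 : ∀ a ∈ F0, ∀ ha : r * (a : H) * r ∈ F, (⟨r * (a : H) * r, ha⟩ : ↥F) ∈ F0 := by
    intro a ha _
    show t * (r * (a : H) * r) * t = r * a * r
    calc t * (r * (a : H) * r) * t = (t * r) * a * (r * t) := by group
      _ = (r * t) * a * (t * r) := by rw [htr]
      _ = r * (t * a * t) * r := by group
      _ = r * a * r := by rw [show t * (a : H) * t = a from ha]
  -- `r` maps `f` to its inverse modulo `F0`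
  have key : ∀ s : H, s * s = 1 → (∀ g ∈ F, s * g * s ∈ F) → (∀ g ∈ F, s * g * s = g → t * g * t = g) →
      ∃ c ∈ F0, s * f * s = (c : H) * f⁻¹ := by
    intro s hs hns hsfix
    obtain ⟨u, hu, hu1, hu2⟩ := exists_fix_mul hF hs hfF (hns f hfF)
    have huF : u ∈ F := (Subgroup.zpowers_le.2 (mul_mem (inv_mem hfF) (hns f hfF))) hu
    have hc : (⟨f * u, mul_mem hfF huF⟩ : ↥F) ∈ F0 := hsfix _ (mul_mem hfF huF) hu2
    have hcj : (⟨f, hfF⟩ : ↥F)⁻¹ * ⟨f * u, mul_mem hfF huF⟩ * ⟨f, hfF⟩ ∈ F0 := by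
      apply (hN _).2
      convert hc using 1
      group
    have hc2 := mul_mem hc hcj
    refine ⟨_, hc2, ?_⟩
    show s * f * s = (f * u) * (f⁻¹ * (f * u) * f) * f⁻¹
    calc s * f * s = (s * (f * u) * s) * (s * u * s)⁻¹ := by
          have hsi : s⁻¹ = s := inv_eq_of_mul_eq_one_right hs
          rw [mul_inv_rev, mul_inv_rev, hsi]
          calc s * f * s = s * f * (u * (s * s) * u⁻¹) * s := by rw [hs]; group
            _ = _ := by group
      _ = f * u * u := by rw [hu2, hu1, inv_inv]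
      _ = _ := by group
  obtain ⟨c1, hc1, e1⟩ := key r hr hnr h1
  -- `t` inverts `f` modulo `F0`
  obtain ⟨c2, hc2, e2⟩ := key t ht hnt (fun g _ h => h)
  set g := t * r with hg
  have hg' : g = r * t := htr
  have hgg : g * g = 1 := by
    nth_rw 2 [hg']
    rw [hg, mul_assoc, ← mul_assoc r r t, hr, one_mul, ht]
  have h7 : g * f * g = t * (r * f * r) * t := by
    nth_rw 2 [hg']
    rw [hg]; group
  have hgf : g * f * g ∈ F := h7 ▸ hnt _ (hnr f hfF)
  obtain ⟨u, hu, hu1, hu2⟩ := exists_fix_mul hF hgg hfF hgf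
  have hd : (⟨f⁻¹ * (g * f * g), mul_mem (inv_mem hfF) hgf⟩ : ↥F) ∈ F0 := by
    have hmem : (⟨f⁻¹ * c1 * (c2 * f⁻¹)⁻¹, mul_mem (mul_mem (inv_mem hfF) c1.2) (inv_mem (mul_mem c2.2 (inv_mem hfF)))⟩ : ↥F) ∈ F0 := by
      have h5 : (⟨f, hfF⟩ : ↥F) * c2⁻¹ * ⟨f, hfF⟩⁻¹ ∈ F0 := (hN _).1 (inv_mem hc2)
      have h6 : (⟨f, hfF⟩ : ↥F)⁻¹ * (c1 * (⟨f, hfF⟩ * c2⁻¹ * ⟨f, hfF⟩⁻¹)) * ⟨f, hfF⟩ ∈ F0 := by
        apply (hN _).2
        rw [show (⟨f, hfF⟩ : ↥F) * ((⟨f, hfF⟩ : ↥F)⁻¹ * (c1 * (⟨f, hfF⟩ * c2⁻¹ * ⟨f, hfF⟩⁻¹)) * ⟨f, hfF⟩) *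
          (⟨f, hfF⟩ : ↥F)⁻¹ = c1 * (⟨f, hfF⟩ * c2⁻¹ * ⟨f, hfF⟩⁻¹) by group]
        exact mul_mem hc1 h5
      have e : (⟨f⁻¹ * c1 * (c2 * f⁻¹)⁻¹, mul_mem (mul_mem (inv_mem hfF) c1.2) (inv_mem (mul_mem c2.2 (inv_mem hfF)))⟩ : ↥F) =
          (⟨f, hfF⟩ : ↥F)⁻¹ * (c1 * (⟨f, hfF⟩ * c2⁻¹ * ⟨f, hfF⟩⁻¹)) * ⟨f, hfF⟩ := by
        apply Subtype.ext
        push_cast
        group
      rw [e]; exact h6
    have e : f⁻¹ * (g * f * g) = f⁻¹ * c1 * (c2 * f⁻¹)⁻¹ := by
      rw [h7, e1]
      have h8 : t * ((c1 : H) * f⁻¹) * t = (t * c1 * t) * (t * f * t)⁻¹ := by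
        rw [mul_inv_rev, mul_inv_rev, hti]
        calc t * ((c1 : H) * f⁻¹) * t = t * c1 * (t * t) * f⁻¹ * t := by rw [ht]; group
          _ = _ := by group
      rw [h8, show t * (c1 : H) * t = c1 from hc1, e2]
      group
    simp only [e]
    exact hmem
  have hfix : g * (f * u) * g = f * u := hu2
  have hu0 : (⟨u, (Subgroup.zpowers_le.2 (mul_mem (inv_mem hfF) hgf)) hu⟩ : ↥F) ∈ F0 := by
    obtain ⟨j, hj⟩ := Subgroup.mem_zpowers_iff.1 hu
    have := zpow_mem hd j
    convert this using 1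
    exact Subtype.ext (by simp only [SubgroupClass.coe_zpow]; exact hj.symm)
  have hfu := h2 _ (mul_mem hfF ((Subgroup.zpowers_le.2 (mul_mem (inv_mem hfF) hgf)) hu)) hfix
  have hfu' : (⟨f, hfF⟩ : ↥F) * ⟨u, (Subgroup.zpowers_le.2 (mul_mem (inv_mem hfF) hgf)) hu⟩ ∈ F0 := hfu
  exact (Subgroup.mul_mem_cancel_right F0 hu0).1 hfu'

/-- A dihedral system for `R` on `F`. -/
theorem exists_system : ∀ (n : ℕ) (R F : Subgroup H), Nat.card R = n → Odd (Nat.card F) → Group.IsNilpotent ↥F →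
    (∀ r ∈ R, r * r = 1) → (∀ r ∈ R, ∀ f ∈ F, r * f * r ∈ F) →
    (∀ r ∈ R, (∀ f ∈ F, r * f * r = f) → r = 1) →
    (∀ r ∈ R, ∀ f ∈ F, f ^ 3 = 1 → r * f * r = f⁻¹ → f = 1) →
    ∃ l : List (H × H),
      (∀ q ∈ l, q.1 ∈ R ∧ q.2 ∈ F ∧ q.1 * q.1 = 1 ∧ q.1 * q.2 * q.1⁻¹ = q.2⁻¹ ∧ (orderOf q.2).Prime ∧
        5 ≤ orderOf q.2) ∧
      l.Pairwise (fun a b => Commute a.1 b.1 ∧ Commute a.1 b.2 ∧ Commute a.2 b.1 ∧ Commute a.2 b.2) ∧
      R ≤ Subgroup.closure {r | ∃ q ∈ l, q.1 = r} ∧ 2 ^ l.length = Nat.card R := by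
  intro n
  induction n using Nat.strong_induction_on with
  | _ n ih =>
  intro R F hn hF hnil hsq hnorm hfaith hno3
  classical
  by_cases hR : R = ⊥
  · exact ⟨[], by simp, List.Pairwise.nil, by rw [hR]; exact bot_le, by
      rw [hR, Subgroup.card_bot]; rfl⟩
  have hcomm : ∀ a ∈ R, ∀ b ∈ R, a * b = b * a := fun a ha b hb => by
    have h := hsq _ (mul_mem ha hb)
    rw [mul_eq_one_iff_eq_inv, mul_inv_rev, inv_eq_of_mul_eq_one_right (hsq a ha),
      inv_eq_of_mul_eq_one_right (hsq b hb)] at h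
    exact h
  have hinv : ∀ a ∈ R, a⁻¹ = a := fun a ha => inv_eq_of_mul_eq_one_right (hsq a ha)
  -- an involution with many fixed points
  let fixc : H → ℕ := fun a => Nat.card {f : H // f ∈ F ∧ a * f * a = f}
  obtain ⟨r0, hr0, hr01⟩ := R.bot_or_exists_ne_one.resolve_left hR
  obtain ⟨t, ⟨htR, ht1⟩, htmax⟩ := (Set.toFinite {a : H | a ∈ R ∧ a ≠ 1}).exists_maximalFor fixc _
    ⟨r0, hr0, hr01⟩
  have htt := hsq t htR
  have hti := hinv t htR
  let F0 : Subgroup H :=
    { carrier := {f | f ∈ F ∧ t * f * t = f}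
      one_mem' := ⟨one_mem _, by rw [mul_one, htt]⟩
      mul_mem' := fun {a b} ha hb => ⟨mul_mem ha.1 hb.1, by
        calc t * (a * b) * t = t * a * (t * t) * b * t := by rw [htt]; group
          _ = (t * a * t) * (t * b * t) := by group
          _ = a * b := by rw [ha.2, hb.2]⟩
      inv_mem' := fun {a} ha => ⟨inv_mem ha.1, by
        conv_rhs => rw [← ha.2]
        rw [mul_inv_rev, mul_inv_rev, hti]; group⟩ }
  have hconjF0 : ∀ r ∈ R, ∀ f ∈ F0, r * f * r ∈ F0 := fun r hr f hf => ⟨hnorm r hr f hf.1, by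
    calc t * (r * f * r) * t = (t * r) * f * (r * t) := by group
      _ = (r * t) * f * (t * r) := by rw [hcomm t htR r hr]
      _ = r * (t * f * t) * r := by group
      _ = r * f * r := by rw [hf.2]⟩
  -- a complement of `t`
  obtain ⟨R0, ⟨hR0le, htR0⟩, hR0max⟩ :=
    (Set.toFinite {B : Subgroup H | B ≤ R ∧ t ∉ B}).exists_maximalFor (fun B : Subgroup H => Nat.card B) _
      ⟨⊥, bot_le, fun h => ht1 (Subgroup.mem_bot.1 h)⟩
  have hsplit : ∀ B : Subgroup H, B ≤ R → ∀ s ∈ R, ∀ y ∈ B ⊔ Subgroup.zpowers s, y ∈ B ∨ y * s ∈ B := by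
    intro B hB s hs y hy
    let S' : Subgroup H :=
      { carrier := {y | y ∈ R ∧ (y ∈ B ∨ y * s ∈ B)}
        one_mem' := ⟨one_mem _, Or.inl (one_mem _)⟩
        mul_mem' := fun {a b} ha hb => ⟨mul_mem ha.1 hb.1, by
          rcases ha.2 with h1 | h1 <;> rcases hb.2 with h2 | h2
          · exact Or.inl (mul_mem h1 h2)
          · right; rw [mul_assoc]; exact mul_mem h1 h2
          · right
            rw [show a * b * s = a * s * b by rw [mul_assoc, hcomm b hb.1 s hs, ← mul_assoc]]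
            exact mul_mem h1 h2
          · left
            rw [show a * b = a * s * (b * s) by
              rw [show a * s * (b * s) = a * (s * b) * s by group, hcomm s hs b hb.1,
                show a * (b * s) * s = a * b * (s * s) by group, hsq s hs, mul_one]]
            exact mul_mem h1 h2⟩
        inv_mem' := fun {a} ha => ⟨inv_mem ha.1, by rw [hinv a ha.1]; exact ha.2⟩ }
    exact ((sup_le (fun x hx => ⟨hB hx, Or.inl hx⟩)
      (Subgroup.zpowers_le.2 ⟨hs, Or.inr (by rw [hsq s hs]; exact one_mem _)⟩) :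
      B ⊔ Subgroup.zpowers s ≤ S') hy).2
  have hR0cases : ∀ y ∈ R, y ∈ R0 ∨ y * t ∈ R0 := by
    intro y hy
    by_cases htop : R ≤ R0 ⊔ Subgroup.zpowers t
    · exact hsplit R0 hR0le t htR y (htop hy)
    exfalso
    obtain ⟨z, hz, hzn⟩ := SetLike.not_le_iff_exists.1 htop
    have hB1 : R0 ⊔ Subgroup.zpowers z ≤ R := sup_le hR0le (Subgroup.zpowers_le.2 hz)
    have ht' : t ∉ R0 ⊔ Subgroup.zpowers z := by
      intro h
      rcases hsplit R0 hR0le z hz t h with h1 | h1
      · exact htR0 h1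
      · apply hzn
        rw [show z = t * (t * z) by rw [← mul_assoc, htt, one_mul]]
        exact mul_mem (Subgroup.mem_sup_right (Subgroup.mem_zpowers t)) (Subgroup.mem_sup_left h1)
    have hlt : R0 < R0 ⊔ Subgroup.zpowers z := lt_of_le_of_ne le_sup_left fun h => hzn
      (Subgroup.mem_sup_left (h ▸ Subgroup.mem_sup_right (Subgroup.mem_zpowers z)))
    have h1 := Set.Finite.card_lt_card (Set.toFinite _) (SetLike.coe_ssubset_coe.2 hlt)
    have h2 := hR0max ⟨hB1, ht'⟩ (Subgroup.card_le_of_le le_sup_left)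
    exact absurd h2 (not_le.2 h1)
  have hcard : Nat.card R = 2 * Nat.card R0 := by
    let e : ↥R0 × Bool → ↥R := fun p => ⟨(p.1 : H) * bif p.2 then t else 1,
      mul_mem (hR0le p.1.2) (by cases p.2 <;> simp [htR])⟩
    have he : Function.Bijective e := by
      refine ⟨?_, ?_⟩
      · rintro ⟨a, b⟩ ⟨a', b'⟩ h
        have h' : (a : H) * (bif b then t else 1) = a' * (bif b' then t else 1) := congrArg Subtype.val h
        cases b <;> cases b' <;> simp only [cond_true, cond_false, mul_one] at h'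
        · exact Prod.ext (Subtype.ext h') rfl
        · exact absurd (show t ∈ R0 by
            rw [show t = (a' : H)⁻¹ * a by rw [h', inv_mul_cancel_left]]
            exact mul_mem (inv_mem a'.2) a.2) htR0
        · exact absurd (show t ∈ R0 by
            rw [show t = (a : H)⁻¹ * a' by rw [← h', inv_mul_cancel_left]]
            exact mul_mem (inv_mem a.2) a'.2) htR0
        · exact Prod.ext (Subtype.ext (mul_right_cancel h')) rfl
      · rintro ⟨y, hy⟩
        rcases hR0cases y hy with h | h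
        · exact ⟨(⟨y, h⟩, false), Subtype.ext (mul_one y)⟩
        · exact ⟨(⟨y * t, h⟩, true), Subtype.ext (by show y * t * t = y; rw [mul_assoc, htt, mul_one])⟩
    rw [← Nat.card_congr (Equiv.ofBijective e he), Nat.card_prod, Nat.card_eq_fintype_card (α := Bool),
      Fintype.card_bool, mul_comm]
  -- `R0` is faithful on the fixed points of `t`
  have hfaith0 : ∀ r ∈ R0, (∀ f ∈ F0, r * f * r = f) → r = 1 := by
    intro r hr hall
    by_contra hr1
    have hrR := hR0le hr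
    have hmem : ∀ s : H, s ∈ R → s ≠ 1 → (∀ f ∈ F0, s * f * s = f) → ∀ f ∈ F, s * f * s = f → t * f * t = f := by
      intro s hs hs1 hfix f hf hsf
      have hsub : {g : H | g ∈ F ∧ t * g * t = g} ⊆ {g : H | g ∈ F ∧ s * g * s = g} :=
        fun g hg => ⟨hg.1, hfix g hg⟩
      by_contra hne
      have hlt : Nat.card {g : H // g ∈ F ∧ t * g * t = g} < Nat.card {g : H // g ∈ F ∧ s * g * s = g} :=
        Set.Finite.card_lt_card (Set.toFinite _) ⟨hsub, fun h => hne (h ⟨hf, hsf⟩).2⟩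
      exact absurd (htmax ⟨hs, hs1⟩ hlt.le) (not_le.2 hlt)
    have htrne : t * r ≠ 1 := fun h => htR0 (by
      rw [mul_eq_one_iff_eq_inv, hinv r hrR] at h; exact h ▸ hr)
    have hall2 : ∀ f ∈ F0, t * r * f * (t * r) = f := fun f hf => by
      calc t * r * f * (t * r) = t * r * f * (r * t) := by rw [hcomm t htR r hrR]
        _ = t * (r * f * r) * t := by group
        _ = f := by rw [hall f hf]; exact hf.2
    exact ht1 (hfaith t htR (le_centralizer_of_four hF hnil htt (hsq r hrR) (hcomm t htR r hrR)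
      (hnorm t htR) (hnorm r hrR) (hmem r hrR hr1 hall)
      (hmem (t * r) (mul_mem htR hrR) htrne hall2)))
  have hlt0 : Nat.card R0 < n := by
    rw [← hn, hcard]
    have h := Nat.card_pos (α := ↥R0)
    omega
  have hF0le : F0 ≤ F := fun f hf => hf.1
  haveI : Group.IsNilpotent ↥F := hnil
  have hnil0 : Group.IsNilpotent ↥F0 := Cores.isNilpotent_of_injective (Subgroup.inclusion hF0le)
    (Subgroup.inclusion_injective hF0le)
  obtain ⟨l, hl, hlc, hlgen, hlcard⟩ := ih _ hlt0 R0 F0 rfl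
    (hF.of_dvd_nat (Subgroup.card_dvd_of_le hF0le)) hnil0 (fun r hr => hsq r (hR0le hr))
    (fun r hr => hconjF0 r (hR0le hr)) hfaith0
    (fun r hr f hf => hno3 r (hR0le hr) f hf.1)
  -- the fixed points of the chosen elements
  let K : Subgroup H := F ⊓ Subgroup.centralizer {x | ∃ q ∈ l, q.2 = x}
  have memK : ∀ {f : H}, f ∈ K ↔ f ∈ F ∧ ∀ q ∈ l, q.2 * f = f * q.2 := fun {f} =>
    ⟨fun h => ⟨h.1, fun q hq => Subgroup.mem_centralizer_iff.1 h.2 _ ⟨q, hq, rfl⟩⟩,
      fun h => ⟨h.1, Subgroup.mem_centralizer_iff.2 (by rintro _ ⟨q, hq, rfl⟩; exact h.2 q hq)⟩⟩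
  have hgenR : R ≤ Subgroup.closure (insert t {r | ∃ q ∈ l, q.1 = r}) := by
    intro y hy
    have hsub0 : R0 ≤ Subgroup.closure (insert t {r | ∃ q ∈ l, q.1 = r}) :=
      hlgen.trans (Subgroup.closure_mono (Set.subset_insert _ _))
    rcases hR0cases y hy with h | h
    · exact hsub0 h
    · rw [show y = y * t * t by rw [mul_assoc, htt, mul_one]]
      exact mul_mem (hsub0 h) (Subgroup.subset_closure (Set.mem_insert _ _))
  have hRK : R ≤ Subgroup.normalizer (K : Set H) := by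
    refine hgenR.trans ((Subgroup.closure_le _).2 ?_)
    intro s hs
    have hsR : s ∈ R := by
      rcases hs with rfl | ⟨q, hq, rfl⟩
      · exact htR
      · exact hR0le (hl q hq).1
    have hsi := hinv s hsR
    have hact : ∀ q ∈ l, s * q.2 * s = q.2 ∨ s * q.2 * s = q.2⁻¹ := by
      intro q hq
      rcases hs with rfl | ⟨q', hq', rfl⟩
      · exact Or.inl (hl q hq).2.1.2
      · by_cases heq : q' = q
        · subst heq
          right
          have := (hl q' hq').2.2.2.1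
          rwa [hsi] at this
        · left
          have hc : Commute q'.1 q.2 := by
            rcases eq_or_ne q' q with h | h
            · exact absurd h heq
            · haveI : Std.Symm (fun a b : H × H => Commute a.1 b.1 ∧ Commute a.1 b.2 ∧ Commute a.2 b.1 ∧ Commute a.2 b.2) :=
                ⟨fun a b h => ⟨h.1.symm, h.2.2.1.symm, h.2.1.symm, h.2.2.2.symm⟩⟩
              exact (List.Pairwise.forall hlc hq' hq h).2.1
          rw [hc.eq, mul_assoc, hsq q'.1 hsR, mul_one]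
    have hstep : ∀ f ∈ K, s * f * s ∈ K := by
      intro f hf
      obtain ⟨h1, h2⟩ := memK.1 hf
      refine memK.2 ⟨hnorm s hsR f h1, fun q hq => ?_⟩
      have hq2 : Commute (s * q.2 * s) f := by
        rcases hact q hq with h | h <;> rw [h]
        · exact h2 q hq
        · exact Commute.inv_left (h2 q hq)
      calc q.2 * (s * f * s) = s * ((s * q.2 * s) * f) * s := by
            rw [show s * (s * q.2 * s * f) * s = (s * s) * q.2 * (s * f * s) by group, hsq s hsR, one_mul]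
        _ = s * (f * (s * q.2 * s)) * s := by rw [hq2.eq]
        _ = (s * f * s) * q.2 * (s * s) := by group
        _ = _ := by rw [hsq s hsR, mul_one]
    rw [SetLike.mem_coe, Subgroup.mem_normalizer_iff]
    intro f
    rw [hsi]
    refine ⟨hstep f, fun h => ?_⟩
    have h1 := hstep _ h
    rwa [show s * (s * f * s) * s = (s * s) * f * (s * s) by group, hsq s hsR, one_mul, mul_one] at h1
  have hKR : ∀ r ∈ R, ∀ f ∈ K, r * f * r ∈ K := fun r hr f hf => by
    have := (Subgroup.mem_normalizer_iff.1 (hRK hr) f).1 hf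
    rwa [hinv r hr] at this
  have hKnil : Group.IsNilpotent ↥K := Cores.isNilpotent_of_injective (Subgroup.inclusion (inf_le_left : K ≤ F))
    (Subgroup.inclusion_injective _)
  have hKodd : Odd (Nat.card K) := hF.of_dvd_nat (Subgroup.card_dvd_of_le inf_le_left)
  -- `t` moves `K`
  have htK : ∃ f ∈ K, t * f * t ≠ f := by
    by_contra hall
    push Not at hall
    refine ht1 (hfaith t htR ?_)
    have htop : F0.subgroupOf F = ⊤ := by
      by_contra hne
      have hlt := Group.normalizerCondition_of_isNilpotent (G := ↥F) (F0.subgroupOf F) (lt_top_iff_ne_top.2 hne)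
      obtain ⟨⟨f, hfF⟩, hfN, hfF0⟩ := SetLike.exists_of_lt hlt
      apply hfF0
      rw [Subgroup.mem_subgroupOf]
      obtain ⟨u, hu, hu1, hu2⟩ := exists_fix_mul hF htt hfF (hnorm t htR f hfF)
      have hK' : f⁻¹ * (t * f * t) ∈ K := by
        refine memK.2 ⟨mul_mem (inv_mem hfF) (hnorm t htR f hfF), fun q hq => ?_⟩
        have hx0 : q.2 ∈ F0 := (hl q hq).2.1
        have hxf : f * q.2 * f⁻¹ ∈ F0 :=
          Subgroup.mem_subgroupOf.1 ((Subgroup.mem_normalizer_iff.1 hfN ⟨q.2, hx0.1⟩).1 (Subgroup.mem_subgroupOf.2 hx0))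
        have e : (t * f * t) * q.2 * (t * f * t)⁻¹ = f * q.2 * f⁻¹ := by
          conv_rhs => rw [← hxf.2]
          rw [mul_inv_rev, mul_inv_rev, hti]
          conv_lhs => rw [show t * f * t * q.2 * (t * (f⁻¹ * t)) = t * f * (t * q.2 * t) * f⁻¹ * t by group, hx0.2]
          group
        calc q.2 * (f⁻¹ * (t * f * t)) = f⁻¹ * (f * q.2 * f⁻¹) * (t * f * t) := by group
          _ = f⁻¹ * (t * f * t * q.2 * (t * f * t)⁻¹) * (t * f * t) := by rw [e]
          _ = _ := by group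
      have h1 := hall _ hK'
      have h2 : t * (f⁻¹ * (t * f * t)) * t = (f⁻¹ * (t * f * t))⁻¹ := by
        rw [mul_inv_rev, mul_inv_rev, mul_inv_rev, hti, inv_inv]
        calc t * (f⁻¹ * (t * f * t)) * t = t * f⁻¹ * t * f * (t * t) := by group
          _ = t * (f⁻¹ * t) * f := by rw [htt]; group
      have h3 := eq_one_of_fix_inverted hF (mul_mem (inv_mem hfF) (hnorm t htR f hfF)) h1 h2
      exact ⟨hfF, (inv_mul_eq_one.1 h3).symm⟩
    intro f hf
    have h : (⟨f, hf⟩ : ↥F) ∈ F0.subgroupOf F := by rw [htop]; exact Subgroup.mem_top _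
    exact (Subgroup.mem_subgroupOf.1 h).2
  -- a hyperplane
  obtain ⟨B, ⟨hBR, f1, hf1, hf1B, hf1t⟩, hBmax⟩ := (Set.toFinite {B : Subgroup H | B ≤ R ∧
      ∃ f ∈ K, (∀ b ∈ B, b * f * b = f) ∧ t * f * t ≠ f}).exists_maximalFor (fun B : Subgroup H => Nat.card B) _
    (by
      obtain ⟨f, hf, hft⟩ := htK
      exact ⟨⊥, bot_le, f, hf, fun b hb => by rw [Subgroup.mem_bot.1 hb, one_mul, mul_one], hft⟩)
  have htB : t ∉ B := fun h => hf1t (hf1B t h)
  let L : Subgroup H :=
    { carrier := {f | f ∈ K ∧ ∀ b ∈ B, b * f * b = f}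
      one_mem' := ⟨one_mem _, fun b hb => by rw [mul_one, hsq b (hBR hb)]⟩
      mul_mem' := fun {a b} ha hb => ⟨mul_mem ha.1 hb.1, fun c hc => by
        calc c * (a * b) * c = c * a * (c * c) * b * c := by rw [hsq c (hBR hc)]; group
          _ = (c * a * c) * (c * b * c) := by group
          _ = a * b := by rw [ha.2 c hc, hb.2 c hc]⟩
      inv_mem' := fun {a} ha => ⟨inv_mem ha.1, fun c hc => by
        conv_rhs => rw [← ha.2 c hc]
        rw [mul_inv_rev, mul_inv_rev, hinv c (hBR hc)]; group⟩ }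
  have hLK : L ≤ K := fun f hf => hf.1
  have hLR : ∀ r ∈ R, ∀ f ∈ L, r * f * r ∈ L := fun r hr f hf => ⟨hKR r hr f hf.1, fun b hb => by
    calc b * (r * f * r) * b = (b * r) * f * (r * b) := by group
      _ = (r * b) * f * (b * r) := by rw [hcomm b (hBR hb) r hr]
      _ = r * (b * f * b) * r := by group
      _ = r * f * r := by rw [hf.2 b hb]⟩
  have hBcases : ∀ y ∈ R, y ∈ B ∨ y * t ∈ B := by
    intro y hy
    by_contra hcon
    push Not at hcon
    haveI : Group.IsNilpotent ↥K := hKnil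
    have hLnil : Group.IsNilpotent ↥L := Cores.isNilpotent_of_injective (Subgroup.inclusion hLK)
      (Subgroup.inclusion_injective hLK)
    have hbig : ∀ s ∈ R, s ∉ B → ∀ f ∈ L, s * f * s = f → t * f * t = f := by
      intro s hs hsB f hf hsf
      by_contra hne
      have hmem : B ⊔ Subgroup.zpowers s ∈ {B : Subgroup H | B ≤ R ∧ ∃ f ∈ K, (∀ b ∈ B, b * f * b = f) ∧ t * f * t ≠ f} := by
        refine ⟨sup_le hBR (Subgroup.zpowers_le.2 hs), f, hf.1, fun b hb => ?_, hne⟩
        rcases hsplit B hBR s hs b hb with h | h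
        · exact hf.2 b h
        · calc b * f * b = (b * s) * (s * f * s) * (s * b) := by
                rw [show (b * s) * (s * f * s) * (s * b) = b * (s * s) * f * (s * s) * b by group, hsq s hs,
                  mul_one, mul_one]
            _ = (b * s) * f * (b * s) := by
                rw [hsf, hcomm s hs b (sup_le hBR (Subgroup.zpowers_le.2 hs) hb)]
            _ = f := hf.2 _ h
      have hlt : B < B ⊔ Subgroup.zpowers s := lt_of_le_of_ne le_sup_left fun h => hsB
        (h ▸ Subgroup.mem_sup_right (Subgroup.mem_zpowers s))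
      have h1 := Set.Finite.card_lt_card (Set.toFinite _) (SetLike.coe_ssubset_coe.2 hlt)
      have h2 := hBmax hmem (Subgroup.card_le_of_le le_sup_left)
      exact absurd h2 (not_le.2 h1)
    exact hf1t (le_centralizer_of_four (hKodd.of_dvd_nat (Subgroup.card_dvd_of_le hLK)) hLnil htt (hsq y hy)
      (hcomm t htR y hy) (hLR t htR) (hLR y hy) (hbig y hy hcon.1)
      (hbig (t * y) (mul_mem htR hy) (by rw [hcomm t htR y hy]; exact hcon.2)) f1 ⟨hf1, hf1B⟩)
  -- the new element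
  obtain ⟨x, hxL, hxp, hx5, hxinv⟩ : ∃ x ∈ L, (orderOf x).Prime ∧ 5 ≤ orderOf x ∧ t * x * t = x⁻¹ := by
    set h := f1⁻¹ * (t * f1 * t) with hh
    have hhL : h ∈ L := mul_mem (inv_mem ⟨hf1, hf1B⟩) (hLR t htR f1 ⟨hf1, hf1B⟩)
    have hh1 : h ≠ 1 := fun e => hf1t (inv_mul_eq_one.1 e).symm
    have hth : t * h * t = h⁻¹ := by
      rw [hh, mul_inv_rev, mul_inv_rev, mul_inv_rev, hti, inv_inv]
      calc t * (f1⁻¹ * (t * f1 * t)) * t = t * f1⁻¹ * t * f1 * (t * t) := by group
        _ = t * (f1⁻¹ * t) * f1 := by rw [htt]; group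
    have hone : orderOf h ≠ 1 := fun e => hh1 (orderOf_eq_one_iff.1 e)
    set p := (orderOf h).minFac with hp
    have hpp : p.Prime := Nat.minFac_prime hone
    set x := h ^ (orderOf h / p) with hx
    have hox : orderOf x = p := orderOf_pow_orderOf_div (orderOf_pos h).ne' (Nat.minFac_dvd _)
    have hxF : x ∈ F := (memK.1 (hLK (Subgroup.pow_mem _ hhL _))).1
    have hinvx : t * x * t = x⁻¹ := by
      calc t * x * t = t * h ^ (orderOf h / p) * t⁻¹ := by rw [hti]
        _ = (t * h * t⁻¹) ^ (orderOf h / p) := conj_pow.symm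
        _ = x⁻¹ := by rw [hti, hth, inv_pow]
    refine ⟨x, Subgroup.pow_mem _ hhL _, hox ▸ hpp, ?_, hinvx⟩
    rw [hox]
    have hodd : Odd p := (hF.of_dvd_nat (Subgroup.orderOf_dvd_natCard F hxF)) |> fun h => hox ▸ h
    rcases Nat.lt_or_ge p 5 with hlt | hge
    · exfalso
      have h2 := hpp.two_le
      obtain ⟨k, hk⟩ := hodd
      have h3 : p = 3 := by omega
      have := hno3 t htR x hxF (by rw [← h3, ← hox, pow_orderOf_eq_one]) hinvx
      rw [this, orderOf_one] at hox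
      omega
    · exact hge
  have hxx : ∀ b ∈ B, Commute b x := fun b hb => by
    show b * x = x * b
    conv_rhs => rw [← hxL.2 b hb]
    rw [mul_assoc (b * x), hsq b (hBR hb), mul_one]
  let adj : H × H → H × H := fun q => (if q.1 ∈ B then q.1 else q.1 * t, q.2)
  have hadj : ∀ q ∈ l, (adj q).1 ∈ B ∧ (∀ z, Commute q.1 z → Commute t z → Commute (adj q).1 z) := by
    intro q hq
    by_cases hb : q.1 ∈ B
    · simp only [adj, if_pos hb]; exact ⟨hb, fun z h _ => h⟩
    · simp only [adj, if_neg hb]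
      exact ⟨(hBcases q.1 (hR0le (hl q hq).1)).resolve_left hb, fun z h1 h2 => h1.mul_left h2⟩
  have htF0 : ∀ f ∈ F0, Commute t f := fun f hf => by
    show t * f = f * t
    conv_rhs => rw [← hf.2]
    rw [mul_assoc (t * f), htt, mul_one]
  refine ⟨(t, x) :: l.map adj, ?_, ?_, ?_, ?_⟩
  · intro q hq
    rcases List.mem_cons.1 hq with rfl | hq
    · exact ⟨htR, (memK.1 (hLK hxL)).1, htt, by rw [hti]; exact hxinv, hxp, hx5⟩
    · obtain ⟨q', hq', rfl⟩ := List.mem_map.1 hq
      obtain ⟨g1, g2, g3, g4, g5, g6⟩ := hl q' hq'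
      refine ⟨hBR (hadj q' hq').1, g2.1, hsq _ (hBR (hadj q' hq').1), ?_, g5, g6⟩
      by_cases hb : q'.1 ∈ B
      · simp only [adj, if_pos hb]; exact g4
      · simp only [adj, if_neg hb]
        calc q'.1 * t * q'.2 * (q'.1 * t)⁻¹ = q'.1 * (t * q'.2 * t⁻¹) * q'.1⁻¹ := by group
          _ = q'.1 * q'.2 * q'.1⁻¹ := by rw [(htF0 _ g2).eq, mul_inv_cancel_right]
          _ = _ := g4
  · refine List.pairwise_cons.2 ⟨?_, List.pairwise_map.2 (hlc.imp_of_mem ?_)⟩
    · intro q hq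
      obtain ⟨q', hq', rfl⟩ := List.mem_map.1 hq
      obtain ⟨g1, g2, -⟩ := hl q' hq'
      exact ⟨hcomm t htR _ (hBR (hadj q' hq').1), htF0 _ g2, (hxx _ (hadj q' hq').1).symm,
        ((memK.1 (hLK hxL)).2 q' hq').symm⟩
    · intro a b ha hb h
      obtain ⟨a1, a2, -⟩ := hl a ha
      obtain ⟨b1, b2, -⟩ := hl b hb
      refine ⟨hcomm _ (hBR (hadj a ha).1) _ (hBR (hadj b hb).1), (hadj a ha).2 _ h.2.1 (htF0 _ b2),
        ((hadj b hb).2 _ h.2.2.1.symm (htF0 _ a2)).symm, h.2.2.2⟩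
  · intro y hy
    refine ((Subgroup.closure_le _).2 ?_) (hgenR hy)
    rintro s (rfl | ⟨q, hq, rfl⟩)
    · exact Subgroup.subset_closure ⟨_, List.mem_cons_self, rfl⟩
    · have h1 : (adj q).1 ∈ Subgroup.closure {r | ∃ p ∈ (t, x) :: l.map adj, p.1 = r} :=
        Subgroup.subset_closure ⟨_, List.mem_cons_of_mem _ (List.mem_map_of_mem hq), rfl⟩
      by_cases hb : q.1 ∈ B
      · rw [show (adj q).1 = q.1 from if_pos hb] at h1; exact h1
      · rw [show (adj q).1 = q.1 * t from if_neg hb] at h1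
        have h2 : t ∈ Subgroup.closure {r | ∃ p ∈ (t, x) :: l.map adj, p.1 = r} :=
          Subgroup.subset_closure ⟨_, List.mem_cons_self, rfl⟩
        rw [show q.1 = q.1 * t * t by rw [mul_assoc, htt, mul_one]]
        exact mul_mem h1 h2
  · rw [List.length_cons, List.length_map, pow_succ, hlcard, hcard, mul_comm]

end

end Cfsg.Agent.Lib.SFourLocal
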