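import Cfsg.Prelude.Def_LocalEven
import Cfsg.Agent.Lib.SFourLocal.System
import Cfsg.Agent.Lib.Fusion.Involves

/-!
Elementary abelian `2`-subgroups of solvable groups without `S₃` on faithful modules.
-/

set_option autoImplicit false

namespace Cfsg.Agent.Lib.SFourLocal

universe u v

/-- An element of order three inverted by an involution gives a symmetric group of degree three. -/
theorem involves_three {H : Type u} [Group H] {t z : H} (ht : t * t = 1) (hz : z ^ 3 = 1) (hz1 : z ≠ 1)
    (htz : t * z * t = z⁻¹) : Cfsg.Involves (Equiv.Perm (Fin 3)) H := by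
  classical
  have ht1 : ∀ k : ℕ, t * z ^ k * t = (z ^ k)⁻¹ := by
    intro k
    induction k with
    | zero => simp [ht]
    | succ k ih =>
      calc t * z ^ (k + 1) * t = (t * z ^ k * t) * (t * z * t) := by
            rw [show (t * z ^ k * t) * (t * z * t) = t * z ^ k * (t * t) * z * t by group, ht, pow_succ]; group
        _ = (z ^ (k + 1))⁻¹ := by rw [ih, htz, ← mul_inv_rev, ← pow_succ']
  have hmod : ∀ k : ℕ, z ^ k = z ^ (k % 3) := fun k => by
    conv_lhs => rw [← Nat.mod_add_div k 3, pow_add, pow_mul, hz, one_pow, mul_one]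
  have hinv : ∀ k : ℕ, (z ^ k)⁻¹ = z ^ (2 * k) := fun k => inv_eq_of_mul_eq_one_right (by
    rw [← pow_add, show k + 2 * k = 3 * k by ring, pow_mul, hz, one_pow])
  let pz : ZMod 3 → H := fun i => z ^ i.val
  have hadd : ∀ i j, pz i * pz j = pz (i + j) := fun i j => by
    show z ^ i.val * z ^ j.val = z ^ (i + j).val
    rw [← pow_add, hmod, ZMod.val_add]
  have hneg : ∀ i, (pz i)⁻¹ = pz (-i) := fun i => inv_eq_of_mul_eq_one_right (by
    rw [hadd, add_neg_cancel]; show z ^ (0 : ZMod 3).val = 1; rw [ZMod.val_zero, pow_zero])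
  have hconj : ∀ i, pz i * t = t * pz (-i) := fun i => by
    rw [← hneg, show (pz i)⁻¹ = t * pz i * t from (ht1 _).symm,
      show t * (t * pz i * t) = (t * t) * pz i * t by group, ht, one_mul]
  let f : DihedralGroup 3 → H := fun g => match g with
    | DihedralGroup.r i => pz i
    | DihedralGroup.sr i => t * pz i
  let φ : DihedralGroup 3 →* H := MonoidHom.mk' f (by
    rintro (i | i) (j | j)
    · exact (hadd i j).symm
    · show t * pz (j - i) = pz i * (t * pz j)
      rw [← mul_assoc, hconj, mul_assoc, hadd, sub_eq_add_neg, add_comm]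
    · show t * pz (i + j) = t * pz i * pz j
      rw [mul_assoc, hadd]
    · show pz (j - i) = t * pz i * (t * pz j)
      rw [show t * pz i * (t * pz j) = t * (pz i * t) * pz j by group, hconj, ← mul_assoc t t, ht, one_mul,
        hadd, sub_eq_add_neg, add_comm])
  have hz3 : orderOf z = 3 := orderOf_eq_prime hz hz1
  have hinj : Function.Injective φ := by
    rw [injective_iff_map_eq_one]
    have hpz : ∀ i : ZMod 3, pz i = 1 → i = 0 := fun i h => by
      have h3 := orderOf_dvd_of_pow_eq_one (show z ^ i.val = 1 from h)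
      rw [hz3] at h3
      have := ZMod.val_lt i
      exact (ZMod.val_eq_zero i).1 (Nat.eq_zero_of_dvd_of_lt h3 this)
    rintro (i | i) h
    · rw [hpz i h]; rfl
    · exfalso
      have h' : t * pz i = 1 := h
      have e : t = pz (-i) := by rw [← hneg]; exact eq_inv_of_mul_eq_one_left h'
      have h2 : z⁻¹ = z := by
        rw [← htz, e, show pz (-i) * z * pz (-i) = pz (-i) * (z * pz (-i)) by group,
          show z * pz (-i) = pz (-i) * z from (Commute.self_pow z _).eq, ← mul_assoc, ← e, ht, one_mul]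
      have h3 : z ^ 2 = 1 := by rw [pow_two]; nth_rw 1 [← h2]; rw [inv_mul_cancel]
      exact hz1 (by rw [pow_succ, h3, one_mul] at hz; exact hz)
  let e : DihedralGroup 3 ≃* Equiv.Perm (Fin 3) := MulEquiv.ofBijective
    (MonoidHom.mk' (fun g => match g with
      | DihedralGroup.r i => (finRotate 3) ^ i.val
      | DihedralGroup.sr i => Equiv.swap 1 2 * (finRotate 3) ^ i.val : DihedralGroup 3 → Equiv.Perm (Fin 3))
      (by decide)) (by decide)
  exact Fusion.involves_of_injective φ hinj e.toMonoidHom e.surjective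

variable {H : Type u} [Group H] {V : Type v} [CommGroup V]

/-- Fixed points. -/
def fixV (ρ : H →* MulAut V) (R : Subgroup H) : Subgroup V where
  carrier := {v | ∀ r ∈ R, ρ r v = v}
  one_mem' := fun r _ => map_one _
  mul_mem' ha hb := fun r hr => by rw [map_mul, ha r hr, hb r hr]
  inv_mem' ha := fun r hr => by rw [map_inv, ha r hr]

/-- The moved part. -/
def comV (ρ : H →* MulAut V) (R : Subgroup H) : Subgroup V :=
  Subgroup.closure {w | ∃ r ∈ R, ∃ v, w = v * ρ r v}

/-- The main bound. -/
theorem offender_bound [Finite H] [Finite V] [Group.IsSolvable H] (hcore : Cfsg.pCore 2 H = ⊥)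
    (hS3 : ¬ Cfsg.Involves (Equiv.Perm (Fin 3)) H) (hex : ∀ v : V, v * v = 1)
    (ρ : H →* MulAut V) (hρ : Function.Injective ρ) (R : Subgroup H) (hR : ∀ r ∈ R, r * r = 1) :
    ∃ y : H, Nat.card R ^ 2 * Nat.card ↥(fixV ρ R) ≤
      Nat.card ↥(fixV ρ R ⊔ (comV ρ R).map (ρ y).toMonoidHom) := by
  classical
  haveI : Fact (Nat.Prime 2) := ⟨Nat.prime_two⟩
  set F := Cfsg.fittingSubgroup H with hF
  have hFodd : Odd (Nat.card F) := by
    have h := Cores.fittingSubgroup_le_pCore_sup_pPrimeCore (G := H) 2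
    rw [hcore, bot_sup_eq] at h
    exact Nat.coprime_two_left.mp
      ((Cores.pPrimeCore_coprime 2 H).coprime_dvd_left (Subgroup.card_dvd_of_le h)).symm
  haveI hFn : F.Normal := Cores.fittingSubgroup_normal H
  have hconj : ∀ r ∈ R, ∀ f ∈ F, r * f * r ∈ F := fun r hr f hf => by
    have := hFn.conj_mem f hf r
    rwa [inv_eq_of_mul_eq_one_right (hR r hr)] at this
  have hfaith : ∀ r ∈ R, (∀ f ∈ F, r * f * r = f) → r = 1 := by
    intro r hr hall
    have hrF : r ∈ F := Cores.centralizer_fittingSubgroup_le inferInstance (Subgroup.mem_centralizer_iff.2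
      fun f hf => by
        conv_lhs => rw [← hall f hf]
        rw [mul_assoc, hR r hr, mul_one])
    exact eq_one_of_fix_inverted hFodd hrF (by rw [hR r hr, one_mul])
      (by rw [hR r hr, one_mul, inv_eq_of_mul_eq_one_right (hR r hr)])
  obtain ⟨l, hl, hlc, hgen, hcard⟩ := exists_system _ R F rfl hFodd (Cores.fittingSubgroup_isNilpotent H) hR
    hconj hfaith (fun r hr f _ h3 hinv => by
      by_contra hne
      exact hS3 (involves_three (hR r hr) h3 hne hinv))
  set l' := l.map fun q => (ρ q.1, ρ q.2) with hl'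
  have hpair : ∀ q ∈ l', IsPair q := by
    intro q hq
    obtain ⟨q', hq', rfl⟩ := List.mem_map.1 hq
    obtain ⟨-, -, g3, g4, g5, g6⟩ := hl q' hq'
    exact ⟨by rw [← map_mul, g3, map_one], by rw [← map_inv, ← map_mul, ← map_mul, g4, map_inv],
      by rw [orderOf_injective ρ hρ]; exact g5, by rw [orderOf_injective ρ hρ]; exact g6⟩
  have hcomm : l'.Pairwise PairComm := List.pairwise_map.2 (hlc.imp fun h =>
    ⟨h.1.map ρ, h.2.1.map ρ, h.2.2.1.map ρ, h.2.2.2.map ρ⟩)
  have hb := sys_bound hex l' ⊤ hpair hcomm (fun _ _ _ _ => ⟨Subgroup.mem_top _, Subgroup.mem_top _⟩) (by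
    intro q hq
    by_contra hall
    push Not at hall
    have h1 : q.2 = 1 := MulEquiv.ext fun v => hall v (Subgroup.mem_top v)
    exact (hpair q hq).prime.ne_one (by rw [h1, orderOf_one]))
  have hfix : fixS ⊤ l' = fixV ρ R := by
    ext v
    constructor
    · rintro ⟨-, hv⟩
      intro r hr
      have hle : Subgroup.closure {r | ∃ q ∈ l, q.1 = r} ≤ (MulAction.stabilizer (MulAut V) v).comap ρ :=
        (Subgroup.closure_le _).2 (by
          rintro _ ⟨q, hq, rfl⟩
          exact hv (ρ q.1, ρ q.2) (List.mem_map.2 ⟨q, hq, rfl⟩))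
      exact hle (hgen hr)
    · intro hv
      refine ⟨Subgroup.mem_top v, fun q hq => ?_⟩
      obtain ⟨q', hq', rfl⟩ := List.mem_map.1 hq
      exact hv _ (hl q' hq').1
  have hcom : comS ⊤ l' ≤ comV ρ R := Subgroup.closure_mono (by
    rintro _ ⟨q, hq, v, -, rfl⟩
    obtain ⟨q', hq', rfl⟩ := List.mem_map.1 hq
    exact ⟨q'.1, (hl q' hq').1, v, rfl⟩)
  refine ⟨(l.map Prod.snd).prod, ?_⟩
  have hy : prodX l' = ρ (l.map Prod.snd).prod := by
    rw [map_list_prod, prodX, hl', List.map_map, List.map_map]; rfl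
  rw [hfix, hy, hl', List.length_map] at hb
  refine le_trans (le_of_eq_of_le ?_ hb) (Subgroup.card_le_of_le (sup_le_sup_left (Subgroup.map_mono hcom) _))
  rw [show 4 ^ l.length = (2 ^ l.length) ^ 2 by rw [← pow_mul, mul_comm, pow_mul]; norm_num, hcard]

end Cfsg.Agent.Lib.SFourLocal
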