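import Cfsg.Agent.Lib.SFourLocal.Local

/-!
Maximal `2`-local subgroups when every `2`-local is solvable, of characteristic two and `S₄`-free.
-/

set_option autoImplicit false
set_option linter.style.haveILetI false

namespace Cfsg.Agent.Lib.SFourLocal

universe u

variable {G : Type u} [Group G] [Finite G]

/-- Every `2`-local is solvable, of characteristic two and `S₄`-free. -/
def GoodLocals (G : Type u) [Group G] : Prop :=
  ∀ M : Subgroup G, Cfsg.IsTwoLocal M →
    Group.IsSolvable M ∧ Cfsg.IsOfCharacteristicTwo ↥M ∧ ¬ Cfsg.Involves (Equiv.Perm (Fin 4)) ↥M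

/-- `⟨Ω₁Z(S)^N(J(S))⟩`. -/
def wSub (S : Subgroup G) : Subgroup G :=
  Subgroup.closure {w | ∃ y ∈ Subgroup.normalizer (Cfsg.thompsonSubgroupOf 2 S : Set G),
    ∃ z ∈ omZ S, w = y * z * y⁻¹}

omit [Finite G] in
theorem omZ_le_wSub (S : Subgroup G) : omZ S ≤ wSub S := fun z hz =>
  Subgroup.subset_closure ⟨1, one_mem _, z, hz, by group⟩

omit [Finite G] in
theorem normalizer_thompson_le_wSub (S : Subgroup G) :
    Subgroup.normalizer (Cfsg.thompsonSubgroupOf 2 S : Set G) ≤ Subgroup.normalizer (wSub S : Set G) := by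
  set Y := Subgroup.normalizer (Cfsg.thompsonSubgroupOf 2 S : Set G)
  have key : ∀ y ∈ Y, ∀ w ∈ wSub S, y * w * y⁻¹ ∈ wSub S := by
    intro y hy w hw
    have hle : wSub S ≤ (wSub S).comap (MulAut.conj y).toMonoidHom := (Subgroup.closure_le _).2 (by
      rintro _ ⟨x, hx, z, hz, rfl⟩
      exact Subgroup.subset_closure ⟨y * x, mul_mem hy hx, z, hz,
        show y * (x * z * x⁻¹) * y⁻¹ = _ by group⟩)
    exact hle hw
  intro y hy
  rw [Subgroup.mem_normalizer_iff]
  refine fun v => ⟨key y hy v, fun h => ?_⟩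
  have h1 := key y⁻¹ (inv_mem hy) _ h
  rwa [show y⁻¹ * (y * v * y⁻¹) * y⁻¹⁻¹ = v by group] at h1

theorem wSub_le_maxEA {S A : Subgroup G} (hA : LocalEven2.IsMaxEA 2 S A) : wSub S ≤ A := by
  refine (Subgroup.closure_le _).2 ?_
  rintro _ ⟨y, hy, z, hz, rfl⟩
  set B := A.map (MulAut.conj y⁻¹).toMonoidHom with hB
  have hBJ : B ≤ Cfsg.thompsonSubgroupOf 2 S := by
    rintro _ ⟨a, ha, rfl⟩
    show y⁻¹ * a * y⁻¹⁻¹ ∈ _
    exact (Subgroup.mem_normalizer_iff.1 (inv_mem hy) a).1 (LocalEven2.le_thompsonSubgroupOf hA ha)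
  have hBS : B ≤ S := hBJ.trans (LocalEven2.thompsonSubgroupOf_le 2 S)
  have hBm : LocalEven2.IsMaxEA 2 S B := ⟨hBS, (hA.map_conj y⁻¹).2.1, fun C hC hCe => by
    rw [hB, Subgroup.card_map_of_injective (MulAut.conj y⁻¹).injective]
    exact hA.2.2 C hC hCe⟩
  obtain ⟨a, ha, hae⟩ := omZ_le_maxEA hBm hz
  have h1 : y⁻¹ * a * y⁻¹⁻¹ = z := hae
  rw [← h1, SetLike.mem_coe, show y * (y⁻¹ * a * y⁻¹⁻¹) * y⁻¹ = a by group]
  exact ha

theorem wSub_le (S : Subgroup G) : wSub S ≤ S := by
  obtain ⟨A, hA⟩ := LocalEven2.exists_isMaxEA 2 S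
  exact (wSub_le_maxEA hA).trans hA.1

theorem wSub_elem (S : Subgroup G) : Cfsg.IsElementaryAbelian 2 (wSub S) := by
  obtain ⟨A, hA⟩ := LocalEven2.exists_isMaxEA 2 S
  obtain ⟨hc, h2⟩ := LocalEven2.isElementaryAbelian_iff.1 hA.2.1
  exact LocalEven2.isElementaryAbelian_iff.2
    ⟨fun a ha b hb => hc a (wSub_le_maxEA hA ha) b (wSub_le_maxEA hA hb), fun a ha => h2 a (wSub_le_maxEA hA ha)⟩

theorem le_normalizer_thompson (S : Subgroup G) :
    S ≤ Subgroup.normalizer (Cfsg.thompsonSubgroupOf 2 S : Set G) :=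
  Subgroup.le_normalizer.trans (LocalEven2.normalizer_le_normalizer_thompson 2 S)

omit [Finite G] in
theorem centralizer_subgroupOf {B H : Subgroup G} (h : B ≤ H) :
    Subgroup.centralizer ((B.subgroupOf H : Subgroup ↥H) : Set ↥H) =
      (Subgroup.centralizer (B : Set G)).subgroupOf H := by
  ext x
  rw [Subgroup.mem_subgroupOf, Subgroup.mem_centralizer_iff, Subgroup.mem_centralizer_iff]
  constructor
  · intro hx b hb
    exact congrArg Subtype.val (hx ⟨b, h hb⟩ (Subgroup.mem_subgroupOf.2 hb))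
  · intro hx b hb
    exact Subtype.ext (hx b (Subgroup.mem_subgroupOf.1 hb))

omit [Finite G] in
theorem centralizer_of_map {H : Subgroup G} (R : Subgroup ↥H) :
    Subgroup.centralizer (R : Set ↥H) = (Subgroup.centralizer (R.map H.subtype : Set G)).subgroupOf H := by
  rw [← centralizer_subgroupOf (Subgroup.map_subtype_le R), Subgroup.subgroupOf,
    Subgroup.comap_map_eq_self_of_injective H.subtype_injective]

theorem odd_subgroupOf {S H : Subgroup G} (hSH : S ≤ H) (hodd : Odd S.index) : Odd (S.subgroupOf H).index :=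
  hodd.of_dvd_nat ⟨H.index, (Subgroup.relIndex_mul_index hSH).symm⟩

omit [Finite G] in
theorem not_involves_of_le {H L : Subgroup G} (h : H ≤ L)
    (hL : ¬ Cfsg.Involves (Equiv.Perm (Fin 4)) ↥L) : ¬ Cfsg.Involves (Equiv.Perm (Fin 4)) ↥H := fun hH => by
  obtain ⟨K, f, hf⟩ := Fusion.exists_surjective_of_involves hH
  exact hL (Fusion.involves_of_injective ((Subgroup.inclusion h).comp K.subtype)
    ((Subgroup.inclusion_injective h).comp K.subtype_injective) f hf)

theorem relIndex_subgroupOf_left {A H : Subgroup G} (K : Subgroup ↥H) :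
    (A.subgroupOf H).relIndex K = A.relIndex (K.map H.subtype) := Subgroup.relIndex_comap A H.subtype K

/-- A `2`-local around a nontrivial `2`-subgroup. -/
theorem local_of {D : Subgroup G} (hD : IsPGroup 2 D) (hne : D ≠ ⊥) :
    Cfsg.IsTwoLocal (Subgroup.normalizer (D : Set G)) := ⟨D, hD, hne, rfl⟩

variable {S : Subgroup G}

theorem moved_wSub (hloc : GoodLocals G) (hS : IsPGroup 2 S) (hodd : Odd S.index) (hne : S ≠ ⊥)
    (R : Subgroup G) (hR : R ≤ S) (hsq : ∀ r ∈ R, r * r ∈ Subgroup.centralizer (wSub S : Set G)) :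
    ((Subgroup.centralizer (wSub S : Set G)).relIndex R) ^ 2 ≤
      (Subgroup.centralizer (R : Set G)).relIndex (wSub S) := by
  set Y := Subgroup.normalizer (Cfsg.thompsonSubgroupOf 2 S : Set G) with hY
  set W := wSub S with hW
  have hSY : S ≤ Y := le_normalizer_thompson S
  obtain ⟨hsol, -, hfree⟩ := hloc Y (local_of (hS.to_le (LocalEven2.thompsonSubgroupOf_le 2 S))
    (exists_ne_one_thompson hS hne))
  haveI := hsol
  have hWY : W ≤ Y := (wSub_le S).trans hSY
  have hRY : R ≤ Y := hR.trans hSY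
  haveI : (W.subgroupOf Y).Normal :=
    (Subgroup.normal_subgroupOf_iff_le_normalizer hWY).2 (normalizer_thompson_le_wSub S)
  obtain ⟨hWc, hW2⟩ := LocalEven2.isElementaryAbelian_iff.1 (wSub_elem S)
  have hgen : W.subgroupOf Y ≤ Subgroup.closure
      {v : ↥Y | ∃ x, ∃ z ∈ ((omZ S).subgroupOf Y : Set ↥Y), v = x * z * x⁻¹} := by
    rw [← Subgroup.map_le_map_iff_of_injective Y.subtype_injective, Subgroup.map_subgroupOf_eq_of_le hWY,
      MonoidHom.map_closure]
    refine Subgroup.closure_mono ?_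
    rintro _ ⟨y, hy, z, hz, rfl⟩
    exact ⟨⟨y * z * y⁻¹, mul_mem (mul_mem hy (hSY (omZ_le S hz))) (inv_mem hy)⟩,
      ⟨⟨y, hy⟩, ⟨z, hSY (omZ_le S hz)⟩, Subgroup.mem_subgroupOf.2 hz, rfl⟩, rfl⟩
  have hb := closure_bound hfree (hS.comap_subtype) (odd_subgroupOf hSY hodd) (V := W.subgroupOf Y)
    (LocalEven2.isElementaryAbelian_iff.2
      ⟨fun a ha b hb => Subtype.ext (hWc a ha b hb), fun a ha => Subtype.ext (hW2 a ha)⟩)
    ((omZ S).subgroupOf Y : Set ↥Y) (fun z hz => omZ_le_wSub S hz)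
    (fun z hz t ht => Subtype.ext (hz.2.2 t ht)) hgen (R.subgroupOf Y) (fun r hr => by
      rw [centralizer_subgroupOf hWY]
      exact hsq r hr)
  rwa [centralizer_subgroupOf hWY, centralizer_subgroupOf hRY, relIndex_subgroupOf_left, relIndex_subgroupOf_left,
    Subgroup.map_subgroupOf_eq_of_le hRY, Subgroup.map_subgroupOf_eq_of_le hWY] at hb

/-- The hypotheses descend to overgroups of `S`. -/
theorem data_wSub (hloc : GoodLocals G) (hS : IsPGroup 2 S) (hodd : Odd S.index) (hne : S ≠ ⊥)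
    {H : Subgroup G} (hSH : S ≤ H) (hchar : Cfsg.IsOfCharacteristicTwo ↥H)
    (hfree : ¬ Cfsg.Involves (Equiv.Perm (Fin 4)) ↥H) :
    Data (S.subgroupOf H) ((wSub S).subgroupOf H) := by
  have hWH : wSub S ≤ H := (wSub_le S).trans hSH
  obtain ⟨hWc, hW2⟩ := LocalEven2.isElementaryAbelian_iff.1 (wSub_elem S)
  have hmapS : (S.subgroupOf H).map H.subtype = S := Subgroup.map_subgroupOf_eq_of_le hSH
  refine ⟨hS.comap_subtype, odd_subgroupOf hSH hodd, hchar, hfree,
    LocalEven2.isElementaryAbelian_iff.2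
      ⟨fun a ha b hb => Subtype.ext (hWc a ha b hb), fun a ha => Subtype.ext (hW2 a ha)⟩,
    fun v hv => wSub_le S hv, ?_, ?_, ?_, ?_⟩
  · intro s hs
    rw [Subgroup.mem_normalizer_iff]
    intro v
    exact Subgroup.mem_normalizer_iff.1
      (normalizer_thompson_le_wSub S (le_normalizer_thompson S (Subgroup.mem_subgroupOf.1 hs))) (v : G)
  · intro A hA v hv
    have hAS : A.map H.subtype ≤ S := hmapS ▸ Subgroup.map_mono hA.1
    have hAm : LocalEven2.IsMaxEA 2 S (A.map H.subtype) :=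
      ⟨hAS, (LocalEven2.isElementaryAbelian_map_subtype A).2 hA.2.1, fun B hB hBe => by
        have hBH := hB.trans hSH
        rw [Subgroup.card_map_of_injective H.subtype_injective, ← Subgroup.map_subgroupOf_eq_of_le hBH,
          Subgroup.card_map_of_injective H.subtype_injective]
        refine hA.2.2 _ (fun b hb => hB hb) ?_
        rw [← LocalEven2.isElementaryAbelian_map_subtype, Subgroup.map_subgroupOf_eq_of_le hBH]
        exact hBe⟩
    obtain ⟨a, ha, hae⟩ := wSub_le_maxEA hAm hv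
    rwa [← Subtype.ext hae]
  · intro R hR hsq
    have hRS : R.map H.subtype ≤ S := hmapS ▸ Subgroup.map_mono hR
    have h := moved_wSub hloc hS hodd hne (R.map H.subtype) hRS (by
      rintro _ ⟨r, hr, rfl⟩
      have h1 := hsq r hr
      rw [centralizer_subgroupOf hWH] at h1
      exact h1)
    rwa [centralizer_subgroupOf hWH, centralizer_of_map R, relIndex_subgroupOf_left, relIndex_subgroupOf_left,
      Subgroup.map_subgroupOf_eq_of_le hWH]
  · intro x hx
    have hJ : (Cfsg.thompsonSubgroupOf 2 (S.subgroupOf H)).map H.subtype = Cfsg.thompsonSubgroupOf 2 S := by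
      rw [← Solvable.ThompsonComplement.thompsonSubgroupOf_map 2 _ H.subtype_injective, hmapS]
    have hxG : (x : G) ∈ Subgroup.normalizer (Cfsg.thompsonSubgroupOf 2 S : Set G) := by
      rw [← hJ]
      exact Subgroup.le_normalizer_map H.subtype ⟨x, hx, rfl⟩
    rw [Subgroup.mem_normalizer_iff]
    intro v
    exact Subgroup.mem_normalizer_iff.1 (normalizer_thompson_le_wSub S hxG) (v : G)

/-- Every `2`-local containing `S` normalizes `W`. -/
theorem local_le_of_sylow_le (hloc : GoodLocals G) (hS : IsPGroup 2 S) (hodd : Odd S.index) (hne : S ≠ ⊥)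
    {L : Subgroup G} (hL : Cfsg.IsTwoLocal L) (hSL : S ≤ L) : L ≤ Subgroup.normalizer (wSub S : Set G) := by
  haveI : Fact (Nat.Prime 2) := ⟨Nat.prime_two⟩
  obtain ⟨hsol, hchar, hfree⟩ := hloc L hL
  haveI := hsol
  suffices h : ∀ n, ∀ H : Subgroup G, Nat.card H = n → S ≤ H → H ≤ L →
      H ≤ Subgroup.normalizer (wSub S : Set G) from h _ L rfl hSL le_rfl
  intro n
  induction n using Nat.strong_induction_on with
  | _ n ih =>
    intro H hn hSH hHL
    haveI : Group.IsSolvable ↥H :=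
      Group.isSolvable_of_isSolvable_injective (Subgroup.inclusion_injective hHL)
    have hWH : wSub S ≤ H := (wSub_le S).trans hSH
    have hcharH : Cfsg.IsOfCharacteristicTwo ↥H := by
      have hiL : ¬ 2 ∣ (S.subgroupOf L).index := fun h =>
        Nat.not_even_iff_odd.2 (odd_subgroupOf hSL hodd) (even_iff_two_dvd.2 h)
      have hOS : Cfsg.pCore 2 ↥L ≤ S.subgroupOf L := Cores.pCore_le_sylow (hS.comap_subtype.toSylow hiL)
      set OL := (Cfsg.pCore 2 ↥L).comap (Subgroup.inclusion hHL) with hOL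
      have hOLH : OL ≤ Cfsg.pCore 2 ↥H := Cores.le_pCore inferInstance
        ((Cores.pCore_isPGroup 2 ↥L).comap_of_injective _ (Subgroup.inclusion_injective hHL))
      intro x hx
      have hxL : Subgroup.inclusion hHL x ∈ Cfsg.pCore 2 ↥L := hchar (Subgroup.mem_centralizer_iff.2 fun o ho => by
        have hoH : (o : G) ∈ H := hSH (hOS ho)
        have h1 := Subgroup.mem_centralizer_iff.1 hx ⟨o, hoH⟩ (hOLH (Subgroup.mem_comap.2 ho))
        exact Subtype.ext (show (o : G) * (x : G) = (x : G) * o from congrArg (fun z : ↥H => (z : G)) h1))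
      exact hOLH hxL
    have d := data_wSub hloc hS hodd hne hSH hcharH (not_involves_of_le hHL hfree)
    have hN := d.normal fun K hSK hK => by
      have hlt : Nat.card ↥(K.map H.subtype) < n := by
        rw [← hn, Subgroup.card_map_of_injective H.subtype_injective]
        exact lt_of_le_of_ne (Subgroup.card_le_card_group _) fun h => hK (Subgroup.eq_top_of_card_eq _ h)
      have hKG := ih _ hlt _ rfl ((Subgroup.map_subgroupOf_eq_of_le hSH).ge.trans (Subgroup.map_mono hSK))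
        ((Subgroup.map_subtype_le K).trans hHL)
      intro k hk
      rw [Subgroup.mem_normalizer_iff]
      intro v
      exact Subgroup.mem_normalizer_iff.1 (hKG ⟨k, hk, rfl⟩) (v : G)
    exact (Subgroup.normal_subgroupOf_iff_le_normalizer hWH).1 hN

/-- The normalizer of every nontrivial subgroup of `S` normalizes `W`. -/
theorem normalizer_le (hloc : GoodLocals G) (P : Sylow 2 G) (hne : (P : Subgroup G) ≠ ⊥)
    {D : Subgroup G} (hD : D ≤ (P : Subgroup G)) (hD1 : D ≠ ⊥) :
    Subgroup.normalizer (D : Set G) ≤ Subgroup.normalizer (wSub (P : Subgroup G) : Set G) := by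
  haveI : Fact (Nat.Prime 2) := ⟨Nat.prime_two⟩
  set S : Subgroup G := (P : Subgroup G) with hSdef
  set M0 := Subgroup.normalizer (wSub S : Set G) with hM0
  have hS : IsPGroup 2 S := P.isPGroup'
  have hodd : Odd S.index := Nat.not_even_iff_odd.1 fun h => P.not_dvd_index h.two_dvd
  have hSM0 : S ≤ M0 := (le_normalizer_thompson S).trans (normalizer_thompson_le_wSub S)
  by_contra hbad
  obtain ⟨E, ⟨hE1, hES, hEM⟩, hmax⟩ := Set.exists_max_image
    {E : Subgroup G | E ≠ ⊥ ∧ E ≤ S ∧ ¬ Subgroup.normalizer (E : Set G) ≤ M0}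
    (fun E => Nat.card ↥(S ⊓ Subgroup.normalizer (E : Set G))) (Set.toFinite _) ⟨D, hD1, hD, hbad⟩
  simp only [Set.mem_setOf_eq] at hmax
  set L := Subgroup.normalizer (E : Set G) with hL
  set T0 := S ⊓ L with hT0
  have hEp : IsPGroup 2 E := hS.to_le hES
  have hlocL : Cfsg.IsTwoLocal L := local_of hEp hE1
  have hET : E ≤ T0 := le_inf hES Subgroup.le_normalizer
  have hT0ne : T0 ≠ ⊥ := fun h => hE1 (eq_bot_iff.2 (h ▸ hET))
  have hT0p : IsPGroup 2 T0 := hS.to_le inf_le_left
  have hlt : T0 < S := lt_of_le_of_ne inf_le_left fun h =>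
    hEM (local_le_of_sylow_le hloc hS hodd hne hlocL (h.ge.trans inf_le_right))
  obtain ⟨N1, hN1, hN1S, hN1N⟩ := Involutions.exists_gt_le_normalizer hS hlt
  have hgood : ∀ F : Subgroup G, F ≠ ⊥ → F ≤ S →
      Nat.card ↥T0 < Nat.card ↥(S ⊓ Subgroup.normalizer (F : Set G)) → Subgroup.normalizer (F : Set G) ≤ M0 :=
    fun F h1 h2 h3 => by_contra fun h4 => absurd (hmax F ⟨h1, h2, h4⟩) (not_le.2 h3)
  have hcardlt : Nat.card ↥T0 < Nat.card N1 :=
    lt_of_le_of_ne (Subgroup.card_le_of_le hN1.le) fun h => hN1.ne (Subgroup.eq_of_le_of_card_ge hN1.le h.ge)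
  have hNT0 : Subgroup.normalizer (T0 : Set G) ≤ M0 := hgood T0 hT0ne inf_le_left
    (hcardlt.trans_le (Subgroup.card_le_of_le (le_inf hN1S hN1N)))
  -- `T0` is a Sylow subgroup of `L`
  obtain ⟨Q, hQ⟩ := (hT0p.of_equiv
    (Subgroup.subgroupOfEquivOfLe (inf_le_right : T0 ≤ L)).symm).exists_le_sylow
  set T := (Q : Subgroup ↥L).map L.subtype with hT
  have hT0T : T0 ≤ T := fun x hx => ⟨⟨x, (Subgroup.mem_inf.1 hx).2⟩, hQ (Subgroup.mem_subgroupOf.2 hx), rfl⟩
  have hTeq : T0 = T := by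
    by_contra hne'
    obtain ⟨M, hM1, hM2, hM3⟩ := Involutions.exists_gt_le_normalizer (Q.isPGroup'.map L.subtype)
      (lt_of_le_of_ne hT0T hne')
    have hMp : IsPGroup 2 M := (Q.isPGroup'.map L.subtype).to_le hM2
    obtain ⟨c, hc, hcM⟩ := Involutions.exists_conj_le_of_sylow_le P hSM0 hMp (hM3.trans hNT0)
    set cf := (MulAut.conj c).toMonoidHom
    have hF1 : E.map cf ≠ ⊥ := fun h => hE1 (by
      rwa [Subgroup.map_eq_bot_iff_of_injective _ (MulAut.conj c).injective] at h)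
    have hF2 : E.map cf ≤ S := (Subgroup.map_mono (hET.trans hM1.le)).trans hcM
    have hF3 : M.map cf ≤ Subgroup.normalizer ((E.map cf : Subgroup G) : Set G) :=
      (Subgroup.map_mono (hM2.trans (Subgroup.map_subtype_le _))).trans (Subgroup.le_normalizer_map cf)
    have h4 := hgood (E.map cf) hF1 hF2 (by
      refine lt_of_lt_of_le ?_ (Subgroup.card_le_of_le (le_inf hcM hF3))
      rw [Subgroup.card_map_of_injective (MulAut.conj c).injective]
      exact lt_of_le_of_ne (Subgroup.card_le_of_le hM1.le) fun h => hM1.ne (Subgroup.eq_of_le_of_card_ge hM1.le h.ge))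
    apply hEM
    intro x hx
    have h5 : c * x * c⁻¹ ∈ M0 := h4 (Subgroup.le_normalizer_map cf ⟨x, hx, rfl⟩)
    have h6 := mul_mem (mul_mem (inv_mem hc) h5) hc
    rwa [show c⁻¹ * (c * x * c⁻¹) * c = x by group] at h6
  have hQeq : T0.subgroupOf L = (Q : Subgroup ↥L) := by
    rw [hTeq, hT, Subgroup.subgroupOf, Subgroup.comap_map_eq_self_of_injective L.subtype_injective]
  obtain ⟨hsol, hchar, hfree⟩ := hloc L hlocL
  haveI := hsol
  have hTi : Odd (T0.subgroupOf L).index := by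
    rw [hQeq]; exact Nat.not_even_iff_odd.1 fun h => Q.not_dvd_index h.two_dvd
  have hfac := factorisation hfree hchar (T := T0.subgroupOf L) hT0p.comap_subtype hTi
  have hzS : Subgroup.normalizer (omZ S : Set G) ≤ M0 := by
    refine local_le_of_sylow_le hloc hS hodd hne
      (local_of (hS.to_le (omZ_le S)) (exists_omZ_ne_one hS hne)) ?_
    intro s hs
    rw [Subgroup.mem_normalizer_iff]
    intro v
    refine ⟨fun hv => by rwa [hv.2.2 s hs, mul_inv_cancel_right], fun hv => ?_⟩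
    have h1 := hv.2.2 s hs
    rwa [show v = s⁻¹ * ((s * v * s⁻¹) * s) by group, ← h1, inv_mul_cancel_left]
  have hC : Subgroup.centralizer ((omZ (T0.subgroupOf L) : Subgroup ↥L) : Set ↥L) ≤ M0.subgroupOf L := by
    intro x hx
    rw [Subgroup.mem_subgroupOf]
    have hxz : ∀ z ∈ omZ S, z * (x : G) = x * z := by
      intro z hz
      have hzL : z ∈ L := by
        rw [hL, Subgroup.mem_normalizer_iff]
        intro v
        refine ⟨fun hv => ?_, fun hv => ?_⟩
        · rwa [show z * v = v * z from (hz.2.2 v (hES hv)).symm, mul_inv_cancel_right]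
        · have h1 : (z * v * z⁻¹) * z = z * (z * v * z⁻¹) := hz.2.2 _ (hES hv)
          rwa [show v = z⁻¹ * ((z * v * z⁻¹) * z) by group, h1, inv_mul_cancel_left]
      have hzT : (⟨z, hzL⟩ : ↥L) ∈ omZ (T0.subgroupOf L) :=
        ⟨Subgroup.mem_subgroupOf.2 (Subgroup.mem_inf.2 ⟨hz.1, hzL⟩), Subtype.ext hz.2.1,
          fun t ht => Subtype.ext (hz.2.2 t (Subgroup.mem_inf.1 (Subgroup.mem_subgroupOf.1 ht)).1)⟩
      exact congrArg (fun w : ↥L => (w : G)) (Subgroup.mem_centralizer_iff.1 hx _ hzT)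
    refine hzS ?_
    rw [Subgroup.mem_normalizer_iff]
    intro v
    refine ⟨fun hv => by rwa [← hxz v hv, mul_inv_cancel_right], fun hv => ?_⟩
    rwa [show v = (x : G)⁻¹ * ((x * v * (x : G)⁻¹) * x) by group, hxz _ hv, inv_mul_cancel_left]
  have hJle : Cfsg.thompsonSubgroupOf 2 T0 ≤ S := (LocalEven2.thompsonSubgroupOf_le 2 T0).trans inf_le_left
  have hJ : Subgroup.normalizer (Cfsg.thompsonSubgroupOf 2 T0 : Set G) ≤ M0 :=
    hgood _ (exists_ne_one_thompson hT0p hT0ne) hJle (hcardlt.trans_le (Subgroup.card_le_of_le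
      (le_inf hN1S (hN1N.trans (LocalEven2.normalizer_le_normalizer_thompson 2 T0)))))
  have hNJ : Subgroup.normalizer (Cfsg.thompsonSubgroupOf 2 (T0.subgroupOf L) : Set ↥L) ≤ M0.subgroupOf L := by
    intro x hx
    rw [Subgroup.mem_subgroupOf]
    refine hJ ?_
    have hJeq : Cfsg.thompsonSubgroupOf 2 T0 = (Cfsg.thompsonSubgroupOf 2 (T0.subgroupOf L)).map L.subtype := by
      rw [← Solvable.ThompsonComplement.thompsonSubgroupOf_map 2 _ L.subtype_injective,
        Subgroup.map_subgroupOf_eq_of_le (inf_le_right : T0 ≤ L)]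
    rw [hJeq]
    exact Subgroup.le_normalizer_map L.subtype ⟨x, hx, rfl⟩
  have htop := sup_le hC hNJ
  rw [hfac] at htop
  exact hEM fun x hx => htop (Subgroup.mem_top (⟨x, hx⟩ : ↥L))

/-- Maximal `2`-locals are strongly embedded. -/
theorem maximal_isStronglyEmbedded (heven : Even (Nat.card G)) (hO : Cfsg.pCore 2 G = ⊥)
    (hloc : GoodLocals G) {M : Subgroup G} (hM : Cfsg.IsMaximalTwoLocal M) : Cfsg.IsStronglyEmbedded M := by
  haveI : Fact (Nat.Prime 2) := ⟨Nat.prime_two⟩
  obtain ⟨⟨D, hD, hD1, hMD⟩, hmax⟩ := hM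
  obtain ⟨P, hDP⟩ := hD.exists_le_sylow
  set S : Subgroup G := (P : Subgroup G) with hSdef
  have hne : S ≠ ⊥ := fun h => hD1 (eq_bot_iff.2 (h ▸ hDP))
  set M0 := Subgroup.normalizer (wSub S : Set G) with hM0
  have hWne : wSub S ≠ ⊥ := fun h => exists_omZ_ne_one P.isPGroup' hne (eq_bot_iff.2 (h ▸ omZ_le_wSub S))
  have hWp : IsPGroup 2 (wSub S) := P.isPGroup'.to_le (wSub_le S)
  have hMM0 : M0 = M := hmax M0 (local_of hWp hWne) (hMD ▸ normalizer_le hloc P hne hDP hD1)
  rw [← hMM0]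
  have hSM0 : S ≤ M0 := (le_normalizer_thompson S).trans (normalizer_thompson_le_wSub S)
  have hM0top : M0 ≠ ⊤ := fun h => hWne (eq_bot_iff.2 (hO ▸ Cores.le_pCore (Subgroup.normalizer_eq_top_iff.1 h) hWp))
  have hM0even : Even (Nat.card M0) := by
    obtain ⟨k, hk⟩ := IsPGroup.iff_card.1 P.isPGroup'
    have hk0 : k ≠ 0 := fun h => hne (Subgroup.card_eq_one.1 (by rw [hk, h, pow_zero]))
    exact even_iff_two_dvd.2 ((dvd_pow_self 2 hk0).trans (hk ▸ Subgroup.card_dvd_of_le hSM0))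
  refine Involutions.isStronglyEmbedded_of_conj_mem hM0top hM0even fun t ht ht2 g hg => ?_
  by_contra hgM
  have hgood : Subgroup.zpowers (g * t * g⁻¹) ≠ ⊥ := by
    rw [Ne, Subgroup.zpowers_eq_bot, conj_eq_one_iff]
    exact fun h => by rw [h, orderOf_one] at ht2; exact absurd ht2 (by norm_num)
  refine Involutions.no_good_of_normalizers_le (P.subtype hSM0) (fun X : Subgroup G => X ≠ ⊥)
    (fun X Y hXY hX hY => hX (eq_bot_iff.2 (hY ▸ hXY)))
    (fun X c hX h => hX (by rwa [Subgroup.map_eq_bot_iff_of_injective _ (MulAut.conj c).injective] at h))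
    (fun X hX hX1 => normalizer_le hloc P hne (hX.trans (le_of_eq (Subgroup.map_subgroupOf_eq_of_le hSM0))) hX1)
    hgM (IsPGroup.of_card (n := 1) (by rw [Nat.card_zpowers, Involutions.orderOf_conj_eq, ht2, pow_one])) hgood ?_
  rw [Subgroup.zpowers_le]
  exact ⟨hg, Involutions.conj_mem_map ht⟩

end Cfsg.Agent.Lib.SFourLocal
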