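import Cfsg.Agent.Lib.SFourLocal.Layer
import Cfsg.Agent.Lib.LocalEven2.Thompson
import Cfsg.Agent.Lib.Coprime.Basic

/-!
The first half of the normality of `W = ⟨Ω₁Z(S)^Y⟩` in solvable `S₄`-free groups of characteristic two.
-/

set_option autoImplicit false
set_option linter.style.haveILetI false

namespace Cfsg.Agent.Lib.SFourLocal

universe u

variable {X : Type u} [Group X] [Finite X]

/-- A conjugate. -/
def cj (y : X) (W : Subgroup X) : Subgroup X := W.map (MulAut.conj y).toMonoidHom

omit [Finite X] in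
theorem mem_cj {y v : X} {W : Subgroup X} : v ∈ cj y W ↔ y⁻¹ * v * y ∈ W := by
  constructor
  · rintro ⟨w, hw, rfl⟩
    show y⁻¹ * (y * w * y⁻¹) * y ∈ W
    rwa [show y⁻¹ * (y * w * y⁻¹) * y = w by group]
  · exact fun h => ⟨_, h, show y * (y⁻¹ * v * y) * y⁻¹ = v by group⟩

omit [Finite X] in
theorem cj_centralizer (y : X) (B : Subgroup X) :
    cj y (Subgroup.centralizer (B : Set X)) = Subgroup.centralizer (cj y B : Set X) := by
  ext v
  rw [mem_cj, Subgroup.mem_centralizer_iff, Subgroup.mem_centralizer_iff]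
  constructor
  · intro h w hw
    have h1 := h _ (mem_cj.1 hw)
    calc w * v = y * ((y⁻¹ * w * y) * (y⁻¹ * v * y)) * y⁻¹ := by group
      _ = y * ((y⁻¹ * v * y) * (y⁻¹ * w * y)) * y⁻¹ := by rw [h1]
      _ = v * w := by group
  · intro h b hb
    have h1 := h (y * b * y⁻¹) ⟨b, hb, rfl⟩
    calc b * (y⁻¹ * v * y) = y⁻¹ * ((y * b * y⁻¹) * v) * y := by group
      _ = y⁻¹ * (v * (y * b * y⁻¹)) * y := by rw [h1]
      _ = y⁻¹ * v * y * b := by group

omit [Finite X] in
theorem relIndex_cj (y : X) (A B : Subgroup X) : (cj y A).relIndex (cj y B) = A.relIndex B :=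
  Subgroup.relIndex_map_map_of_injective _ _ (MulAut.conj y).injective

theorem relIdx_ne_zero {A B : Subgroup X} : A.relIndex B ≠ 0 :=
  Subgroup.index_ne_zero_of_finite

theorem relIndex_le_left {A B K : Subgroup X} (h : A ≤ B) : B.relIndex K ≤ A.relIndex K :=
  Subgroup.relIndex_le_of_le_left h relIdx_ne_zero

theorem relIndex_le_right {H A B : Subgroup X} (h : A ≤ B) : H.relIndex A ≤ H.relIndex B :=
  Subgroup.relIndex_le_of_le_right h relIdx_ne_zero

/-- The standing hypotheses. -/
structure Data (S W : Subgroup X) : Prop where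
  two : IsPGroup 2 S
  odd : Odd S.index
  char : Subgroup.centralizer (Cfsg.pCore 2 X : Set X) ≤ Cfsg.pCore 2 X
  free : ¬ Cfsg.Involves (Equiv.Perm (Fin 4)) X
  elem : Cfsg.IsElementaryAbelian 2 W
  le : W ≤ S
  norm : S ≤ Subgroup.normalizer (W : Set X)
  inA : ∀ A, LocalEven2.IsMaxEA 2 S A → W ≤ A
  moved : ∀ R ≤ S, (∀ r ∈ R, r * r ∈ Subgroup.centralizer (W : Set X)) →
    ((Subgroup.centralizer (W : Set X)).relIndex R) ^ 2 ≤ (Subgroup.centralizer (R : Set X)).relIndex W
  thompson : Subgroup.normalizer (Cfsg.thompsonSubgroupOf 2 S : Set X) ≤ Subgroup.normalizer (W : Set X)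

namespace Data

variable {S W : Subgroup X}

local notation "O" => Cfsg.pCore 2 X

theorem pCore_le (d : Data S W) : O ≤ S := by
  haveI : Fact (Nat.Prime 2) := ⟨Nat.prime_two⟩
  exact Cores.pCore_le_sylow (d.two.toSylow (fun h => (Nat.not_even_iff_odd.2 d.odd) (even_iff_two_dvd.2 h)))

theorem norm_conj (d : Data S W) (y : X) {o : X} (ho : o ∈ O) {w : X} (hw : w ∈ cj y W) :
    o * w * o⁻¹ ∈ cj y W := by
  have h1 : y⁻¹ * o * y ∈ S := d.pCore_le (Subgroup.Normal.conj_mem' inferInstance o ho y)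
  have h2 := (Subgroup.mem_normalizer_iff.1 (d.norm h1) _).1 (mem_cj.1 hw)
  rw [mem_cj]
  rwa [show y⁻¹ * o * y * (y⁻¹ * w * y) * (y⁻¹ * o * y)⁻¹ = y⁻¹ * (o * w * o⁻¹) * y by group] at h2

theorem moved_conj (d : Data S W) (y : X) (R : Subgroup X) (hR : R ≤ O)
    (hsq : ∀ r ∈ R, r * r ∈ Subgroup.centralizer (cj y W : Set X)) :
    ((Subgroup.centralizer (cj y W : Set X)).relIndex R) ^ 2 ≤
      (Subgroup.centralizer (R : Set X)).relIndex (cj y W) := by
  set R0 := cj y⁻¹ R with hR0
  have hback : cj y R0 = R := by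
    ext v
    rw [mem_cj, hR0, mem_cj, show (y⁻¹)⁻¹ * (y⁻¹ * v * y) * y⁻¹ = v by group]
  have h := d.moved R0 (fun v hv => by
      have hv' : y * v * y⁻¹ ∈ R := by simpa using mem_cj.1 hv
      have h1 := Subgroup.Normal.conj_mem' (inferInstance : (O).Normal) _ (hR hv') y
      rw [show y⁻¹ * (y * v * y⁻¹) * y = v by group] at h1
      exact d.pCore_le h1)
    (fun v hv => by
      have hv' : y * v * y⁻¹ ∈ R := by simpa using mem_cj.1 hv
      have h1 := hsq _ hv'
      rw [← cj_centralizer, mem_cj] at h1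
      rwa [show y⁻¹ * (y * v * y⁻¹ * (y * v * y⁻¹)) * y = v * v by group] at h1)
  rwa [← relIndex_cj y _ R0, cj_centralizer, ← relIndex_cj y (Subgroup.centralizer (R0 : Set X)) W,
    cj_centralizer, hback] at h

theorem sq_mem (d : Data S W) (y : X) {Y : Subgroup X} {w : X} (hw : w ∈ cj y W) :
    w * w ∈ Subgroup.centralizer (Y : Set X) := by
  have h := (LocalEven2.isElementaryAbelian_iff.1 d.elem).2 _ (mem_cj.1 hw)
  rw [pow_two, show y⁻¹ * w * y * (y⁻¹ * w * y) = y⁻¹ * (w * w) * y by group] at h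
  have h2 : w * w = 1 := by
    have := congrArg (fun z => y * z * y⁻¹) h
    simpa [mul_assoc] using this
  rw [h2]; exact one_mem _

theorem cj_one (d : Data S W) : cj 1 W = W := by
  have := d.le
  ext v; rw [mem_cj]; simp

/-- `W` lies in `O₂(X)`. -/
theorem le_pCore (d : Data S W) [Group.IsSolvable X] : W ≤ O := by
  classical
  haveI : Fact (Nat.Prime 2) := ⟨Nat.prime_two⟩
  set U := (frattini ↥(O)).map (O).subtype with hU
  haveI hUn : U.Normal := by
    haveI : (frattini ↥(O)).Characteristic := frattini_characteristic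
    infer_instance
  obtain ⟨hker, hcore⟩ := core_secAct_frattini d.char
  set ψ := secAct U (O) with hψ
  have hOp : IsPGroup 2 ↥(O) := Cores.pCore_isPGroup 2 X
  have hsq : ∀ o ∈ (O), o * o ∈ U := fun o ho =>
    ⟨(⟨o, ho⟩ : ↥(O)) ^ 2, Cores.pow_mem_frattini hOp _, by rw [pow_two]; rfl⟩
  have hex : ∀ v : ↥(secV U (O)), v * v = 1 := fun v => by
    obtain ⟨l, hl, rfl⟩ := secMk_surj U (O) v
    exact Subtype.ext ((QuotientGroup.eq_one_iff _).2 (hsq l hl))
  have hvc : ∀ a b : ↥(secV U (O)), a * b = b * a := fun a b => by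
    have h := hex (a * b)
    rw [mul_eq_one_iff_eq_inv, mul_inv_rev, inv_eq_of_mul_eq_one_right (hex a),
      inv_eq_of_mul_eq_one_right (hex b)] at h
    exact h
  letI : CommGroup ↥(secV U (O)) := { (secV U (O)).toGroup with mul_comm := hvc }
  have hS3 : ¬ Cfsg.Involves (Equiv.Perm (Fin 3)) ↥ψ.range :=
    not_three_range d.free hOp ψ (by rw [hψ, hker]; exact d.char)
  obtain ⟨y, hy⟩ := layer_bound ψ hex hcore hS3 W (fun w hw => by
    rw [(by rw [← pow_two]; exact (LocalEven2.isElementaryAbelian_iff.1 d.elem).2 w hw : w * w = 1)]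
    exact one_mem _)
  set Q := cj y W ⊓ O with hQ
  set k := (O).relIndex W with hk
  set a := (Subgroup.centralizer (W : Set X)).relIndex Q with ha
  set b := (Subgroup.centralizer (cj y W : Set X)).relIndex (W ⊓ O) with hb
  have hk0 : 0 < k := Nat.pos_of_ne_zero relIdx_ne_zero
  have hab : a ^ 2 ≤ k * b := by
    refine (d.moved Q (inf_le_right.trans d.pCore_le) fun r hr => d.sq_mem y hr.1).trans ?_
    calc (Subgroup.centralizer (Q : Set X)).relIndex W
        ≤ (W ⊓ O ⊓ Subgroup.centralizer (Q : Set X)).relIndex W := relIndex_le_left inf_le_right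
      _ = (W ⊓ O ⊓ Subgroup.centralizer (Q : Set X)).relIndex (W ⊓ O) * (W ⊓ O).relIndex W :=
          (Subgroup.relIndex_mul_relIndex _ _ _ inf_le_left inf_le_left).symm
      _ ≤ b * k := by
          refine Nat.mul_le_mul ?_ (le_of_eq (Subgroup.inf_relIndex_left _ _))
          rw [Subgroup.inf_relIndex_left]
          exact relIndex_le_left (Subgroup.centralizer_le (SetLike.coe_subset_coe.2 inf_le_left))
      _ = k * b := mul_comm _ _
  have hba : b ^ 2 ≤ k * a := by
    refine (d.moved_conj y (W ⊓ O) inf_le_right fun r hr => ?_).trans ?_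
    · have hr1 : r ∈ cj 1 W := by rw [d.cj_one]; exact hr.1
      exact d.sq_mem 1 hr1
    have hkc : (O).relIndex (cj y W) = k := by
      rw [hk, ← relIndex_cj y (O) W]
      congr 1
      ext v
      rw [mem_cj]
      constructor
      · intro h; exact Subgroup.Normal.conj_mem' inferInstance v h y
      · intro h
        have h1 := Subgroup.Normal.conj_mem (inferInstance : (O).Normal) _ h y
        rwa [show y * (y⁻¹ * v * y) * y⁻¹ = v by group] at h1
    calc (Subgroup.centralizer ((W ⊓ O : Subgroup X) : Set X)).relIndex (cj y W)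
        ≤ (cj y W ⊓ O ⊓ Subgroup.centralizer ((W ⊓ O : Subgroup X) : Set X)).relIndex (cj y W) :=
          relIndex_le_left inf_le_right
      _ = (cj y W ⊓ O ⊓ Subgroup.centralizer ((W ⊓ O : Subgroup X) : Set X)).relIndex (cj y W ⊓ O) *
            (cj y W ⊓ O).relIndex (cj y W) :=
          (Subgroup.relIndex_mul_relIndex _ _ _ inf_le_left inf_le_left).symm
      _ ≤ a * k := by
          refine Nat.mul_le_mul ?_ (le_of_eq ((Subgroup.inf_relIndex_left _ _).trans hkc))
          rw [Subgroup.inf_relIndex_left]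
          exact relIndex_le_left (Subgroup.centralizer_le (SetLike.coe_subset_coe.2 inf_le_left))
      _ = k * a := mul_comm _ _
  have hak : a ≤ k := by
    by_contra hlt
    push Not at hlt
    have h1 : a ^ 2 * a ^ 2 ≤ k ^ 2 * (k * a) := by
      calc a ^ 2 * a ^ 2 ≤ (k * b) * (k * b) := Nat.mul_le_mul hab hab
        _ = k ^ 2 * b ^ 2 := by ring
        _ ≤ _ := Nat.mul_le_mul_left _ hba
    have h2 : k ^ 3 < a ^ 3 := Nat.pow_lt_pow_left hlt (by norm_num)
    have ha0 : 0 < a := by omega
    have h3 : a ^ 3 * a ≤ k ^ 3 * a := by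
      calc a ^ 3 * a = a ^ 2 * a ^ 2 := by ring
        _ ≤ k ^ 2 * (k * a) := h1
        _ = k ^ 3 * a := by ring
    exact absurd (Nat.le_of_mul_le_mul_right h3 ha0) (not_le.2 h2)
  have hka : k ^ 2 ≤ a := by
    set fx := fixV ψ W with hfx
    let π : ↥Q →* ↥(secV U (O)) := MonoidHom.mk' (fun q => secMk U (O) q q.2.2) fun p q => rfl
    set N := (comV ψ W).map (ψ y).toMonoidHom with hN
    have hNr : N ≤ π.range := by
      rw [hN, Subgroup.map_le_iff_le_comap, comV, Subgroup.closure_le]
      rintro _ ⟨w, hw, v, rfl⟩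
      obtain ⟨l, hl, rfl⟩ := secMk_surj U (O) v
      have hl' : l⁻¹ * (w * l * w⁻¹) ∈ W := by
        have h1 := (Subgroup.mem_normalizer_iff.1 (d.norm (d.pCore_le (inv_mem hl))) w).1 hw
        rw [inv_inv] at h1
        rw [show l⁻¹ * (w * l * w⁻¹) = l⁻¹ * w * l * w⁻¹ by group]
        exact mul_mem h1 (inv_mem hw)
      have hO' : l⁻¹ * (w * l * w⁻¹) ∈ (O) := mul_mem (inv_mem hl) (Subgroup.Normal.conj_mem inferInstance l hl w)
      refine ⟨⟨y * (l⁻¹ * (w * l * w⁻¹)) * y⁻¹, ?_, Subgroup.Normal.conj_mem inferInstance _ hO' y⟩, ?_⟩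
      · show _ ∈ cj y W
        rw [mem_cj]
        rwa [show y⁻¹ * (y * (l⁻¹ * (w * l * w⁻¹)) * y⁻¹) * y = l⁻¹ * (w * l * w⁻¹) by group]
      · show secMk U (O) (y * (l⁻¹ * (w * l * w⁻¹)) * y⁻¹) (Subgroup.Normal.conj_mem inferInstance _ hO' y) = ψ y (secMk U (O) l hl * ψ w (secMk U (O) l hl))
        rw [hψ, secAct_mk U (O) w, show secMk U (O) l hl = secMk U (O) l⁻¹ (inv_mem hl) from
          (inv_eq_of_mul_eq_one_right (hex _)).symm.trans rfl,
          show secMk U (O) l⁻¹ (inv_mem hl) * secMk U (O) (w * l * w⁻¹) (Subgroup.Normal.conj_mem inferInstance l hl w) =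
            secMk U (O) (l⁻¹ * (w * l * w⁻¹)) hO' from rfl, secAct_mk U (O) y]
    have hsub : (Subgroup.centralizer (W : Set X)).subgroupOf Q ≤ fx.comap π := by
      intro q hq w hw
      show secAct U (O) w (secMk U (O) q q.2.2) = secMk U (O) q q.2.2
      rw [secAct_fix_iff]
      have h1 : w * (q : X) = q * w := Subgroup.mem_centralizer_iff.1 hq w hw
      rw [h1, mul_inv_cancel_right, inv_mul_cancel]
      exact one_mem _
    have hle : fx.relIndex N ≤ a := by
      calc fx.relIndex N ≤ fx.relIndex π.range :=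
            Subgroup.relIndex_le_of_le_right hNr relIdx_ne_zero
        _ = (fx.comap π).index := (Subgroup.index_comap _ _).symm
        _ ≤ ((Subgroup.centralizer (W : Set X)).subgroupOf Q).index :=
            Nat.le_of_dvd (Nat.pos_of_ne_zero Subgroup.index_ne_zero_of_finite) (Subgroup.index_dvd_of_le hsub)
    have hkW : Nat.card W = k * Nat.card ↥(W ⊓ ψ.ker) := by
      have h := Subgroup.relIndex_mul_relIndex ⊥ (W ⊓ (O)) W bot_le inf_le_left
      rw [Subgroup.relIndex_bot_left, Subgroup.relIndex_bot_left, Subgroup.inf_relIndex_left] at h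
      rw [hψ, hker, hk, ← h, mul_comm]
    have hfxN : Nat.card ↥(fx ⊔ N) = Nat.card fx * fx.relIndex N := by
      have h1 := card_sup_inf fx N
      have h2 : Nat.card ↥(fx ⊓ N) * fx.relIndex N = Nat.card N := by
        rw [← Subgroup.inf_relIndex_right, ← Subgroup.relIndex_bot_left,
          Subgroup.relIndex_mul_relIndex _ _ _ bot_le inf_le_right, Subgroup.relIndex_bot_left]
      rw [← h2] at h1
      exact Nat.eq_of_mul_eq_mul_right (Nat.card_pos (α := ↥(fx ⊓ N))) (by rw [h1]; ring)
    rw [hfxN, hkW] at hy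
    have hpos : 0 < Nat.card fx * Nat.card ↥(W ⊓ ψ.ker) ^ 2 := Nat.mul_pos Nat.card_pos (Nat.pow_pos Nat.card_pos)
    refine le_trans (Nat.le_of_mul_le_mul_right ?_ hpos) hle
    calc k ^ 2 * (Nat.card fx * Nat.card ↥(W ⊓ ψ.ker) ^ 2) = (k * Nat.card ↥(W ⊓ ψ.ker)) ^ 2 * Nat.card fx := by
          ring
      _ ≤ Nat.card fx * fx.relIndex N * Nat.card ↥(W ⊓ ψ.ker) ^ 2 := hy
      _ = _ := by ring
  have hk1 : k = 1 := by nlinarith
  exact Subgroup.relIndex_eq_one.1 hk1

/-- Two conjugates of `W` commute. -/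
theorem cj_comm (d : Data S W) [Group.IsSolvable X] (y : X) :
    cj y W ≤ Subgroup.centralizer (W : Set X) := by
  have hWO := d.le_pCore
  have hyO : cj y W ≤ O := fun v hv => by
    have h1 := Subgroup.Normal.conj_mem (inferInstance : (O).Normal) _ (hWO (mem_cj.1 hv)) y
    rwa [show y * (y⁻¹ * v * y) * y⁻¹ = v by group] at h1
  set a := (Subgroup.centralizer (W : Set X)).relIndex (cj y W) with ha
  set b := (Subgroup.centralizer (cj y W : Set X)).relIndex W with hb
  have h1 : a ^ 2 ≤ b := d.moved _ (hyO.trans d.pCore_le) fun r hr => d.sq_mem y hr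
  have h2 : b ^ 2 ≤ a := d.moved_conj y W hWO fun r hr => by
    have hr1 : r ∈ cj 1 W := by rw [d.cj_one]; exact hr
    exact d.sq_mem 1 hr1
  have ha0 : 0 < a := Nat.pos_of_ne_zero relIdx_ne_zero
  have ha1 : a = 1 := by
    by_contra hne
    have h3 : 2 ≤ a := by omega
    have h4 := Nat.pow_le_pow_left h1 2
    nlinarith [Nat.pow_le_pow_left h3 3]
  exact Subgroup.relIndex_eq_one.1 ha1

/-- The greedy bound. -/
theorem greedy (d : Data S W) (R : Subgroup X) (hR : R ≤ O) :
    ∀ T : Finset X, (∀ r ∈ R, ∀ y ∈ T, r * r ∈ Subgroup.centralizer (cj y W : Set X)) →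
      ((Subgroup.centralizer ((⨆ y ∈ T, cj y W : Subgroup X) : Set X)).relIndex R) ^ 2 ≤
        (Subgroup.centralizer (R : Set X)).relIndex (⨆ y ∈ T, cj y W) := by
  classical
  intro T
  induction T using Finset.induction_on generalizing R with
  | empty =>
    intro _
    simp only [Finset.notMem_empty, iSup_false, iSup_bot]
    rw [show Subgroup.centralizer ((⊥ : Subgroup X) : Set X) = ⊤ from eq_top_iff.2 fun x _ => by
      rw [Subgroup.mem_centralizer_iff]
      intro b hb
      rw [Subgroup.mem_bot.1 hb, one_mul, mul_one], Subgroup.relIndex_top_left, Subgroup.relIndex_bot_right]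
    norm_num
  | insert y T hy ih =>
    intro hsq
    rw [Finset.iSup_insert]
    set WT := ⨆ z ∈ T, cj z W with hWT
    set R1 := R ⊓ Subgroup.centralizer (cj y W : Set X) with hR1
    have hcen : Subgroup.centralizer ((cj y W ⊔ WT : Subgroup X) : Set X) =
        Subgroup.centralizer (cj y W : Set X) ⊓ Subgroup.centralizer (WT : Set X) := by
      refine le_antisymm (le_inf (Subgroup.centralizer_le (SetLike.coe_subset_coe.2 le_sup_left)) (Subgroup.centralizer_le (SetLike.coe_subset_coe.2 le_sup_right))) ?_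
      rintro x ⟨hx1, hx2⟩
      rw [Subgroup.mem_centralizer_iff]
      intro z hz
      have hle : cj y W ⊔ WT ≤ Subgroup.centralizer ({x} : Set X) := sup_le
        (fun w hw => Subgroup.mem_centralizer_singleton_iff.2 (Subgroup.mem_centralizer_iff.1 hx1 w hw))
        (fun w hw => Subgroup.mem_centralizer_singleton_iff.2 (Subgroup.mem_centralizer_iff.1 hx2 w hw))
      exact Subgroup.mem_centralizer_singleton_iff.1 (hle hz)
    have h1 := ih R1 (inf_le_left.trans hR) fun r hr z hz => hsq r hr.1 z (Finset.mem_insert_of_mem hz)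
    have h2 := d.moved_conj y R hR fun r hr => hsq r hr y (Finset.mem_insert_self y T)
    set C1 := Subgroup.centralizer (cj y W : Set X)
    set C2 := Subgroup.centralizer (WT : Set X)
    have hleft : (C1 ⊓ C2).relIndex R = C2.relIndex R1 * C1.relIndex R := by
      rw [← Subgroup.inf_relIndex_right (C1 ⊓ C2) R,
        ← Subgroup.relIndex_mul_relIndex ((C1 ⊓ C2) ⊓ R) R1 R (le_inf inf_le_right (inf_le_left.trans inf_le_left))
          inf_le_left]
      congr 1
      · rw [← Subgroup.inf_relIndex_right C2 R1]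
        congr 1
        rw [hR1]; ac_rfl
      · rw [hR1, inf_comm, Subgroup.inf_relIndex_right]
    set V := cj y W ⊔ WT with hV
    set CR1 := Subgroup.centralizer (R1 : Set X)
    set CR := Subgroup.centralizer (R : Set X)
    have hcjle : cj y W ≤ CR1 := fun w hw => Subgroup.mem_centralizer_iff.2 fun r hr =>
      (Subgroup.mem_centralizer_iff.1 hr.2 w hw).symm
    have hright : CR.relIndex (cj y W) * CR1.relIndex WT ≤ CR.relIndex V := by
      calc CR.relIndex (cj y W) * CR1.relIndex WT ≤ CR.relIndex (V ⊓ CR1) * CR1.relIndex V :=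
            Nat.mul_le_mul (relIndex_le_right (le_inf le_sup_left hcjle)) (relIndex_le_right le_sup_right)
        _ = (CR ⊓ V).relIndex (V ⊓ CR1) * (V ⊓ CR1).relIndex V := by
            rw [Subgroup.inf_relIndex_left]
            congr 1
            rw [← Subgroup.inf_relIndex_right CR (V ⊓ CR1), ← Subgroup.inf_relIndex_right (CR ⊓ V) (V ⊓ CR1)]
            congr 1
            refine le_antisymm (le_inf (le_inf inf_le_left (inf_le_right.trans inf_le_left)) inf_le_right)
              (le_inf (inf_le_left.trans inf_le_left) inf_le_right)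
        _ = (CR ⊓ V).relIndex V := Subgroup.relIndex_mul_relIndex _ _ _
            (le_inf inf_le_right (inf_le_left.trans (Subgroup.centralizer_le (SetLike.coe_subset_coe.2 inf_le_left))))
            inf_le_left
        _ = _ := Subgroup.inf_relIndex_right _ _
    rw [hcen, hleft, mul_pow]
    exact le_trans (le_of_le_of_eq (Nat.mul_le_mul h1 h2) (mul_comm _ _)) hright

end Data

end Cfsg.Agent.Lib.SFourLocal
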