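import Cfsg.Agent.Lib.SFourLocal.Greedy

/-!
`W` is normal in a solvable `S₄`-free group of characteristic two.
-/

set_option autoImplicit false
set_option linter.style.haveILetI false

namespace Cfsg.Agent.Lib.SFourLocal

universe u

variable {X : Type u} [Group X] [Finite X]

/-- The subgroup generated by the elements of odd order. -/
def oddPart (X : Type u) [Group X] : Subgroup X := Subgroup.closure {x : X | Odd (orderOf x)}

instance oddPart_normal : (oddPart X).Normal := by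
  constructor
  intro n hn g
  have hle : oddPart X ≤ (oddPart X).comap (MulAut.conj g).toMonoidHom :=
    (Subgroup.closure_le _).2 fun x hx => Subgroup.subset_closure (by
      show Odd (orderOf ((MulAut.conj g) x))
      rwa [MulEquiv.orderOf_eq])
  exact hle hn

/-- An element of odd order lies in a normal subgroup supplemented by a `2`-group. -/
theorem odd_mem_of_sup {N S : Subgroup X} [N.Normal] (hS : IsPGroup 2 S) (h : N ⊔ S = ⊤) {x : X}
    (hx : Odd (orderOf x)) : x ∈ N := by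
  obtain ⟨s, hs, hse⟩ : (QuotientGroup.mk' N x) ∈ S.map (QuotientGroup.mk' N) := by
    have h1 : (N ⊔ S).map (QuotientGroup.mk' N) = (⊤ : Subgroup X).map (QuotientGroup.mk' N) := by rw [h]
    rw [Subgroup.map_sup, QuotientGroup.map_mk'_self, bot_sup_eq] at h1
    rw [h1]
    exact ⟨x, Subgroup.mem_top x, rfl⟩
  obtain ⟨k, hk⟩ := hS ⟨s, hs⟩
  have hk' : s ^ 2 ^ k = 1 := congrArg Subtype.val hk
  have h1 : orderOf (QuotientGroup.mk' N x) ∣ 2 ^ k := orderOf_dvd_of_pow_eq_one (by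
    rw [← hse, ← map_pow, hk', map_one])
  have h2 : orderOf (QuotientGroup.mk' N x) ∣ orderOf x := orderOf_map_dvd _ _
  have h3 := Nat.eq_one_of_dvd_coprimes ((Nat.coprime_two_right.2 hx).pow_right k) h2 h1
  exact (QuotientGroup.eq_one_iff x).1 (orderOf_eq_one_iff.1 h3)

/-- `X` is generated by `S` and its elements of odd order. -/
theorem oddPart_sup {S : Subgroup X} (hS : IsPGroup 2 S) (hodd : Odd S.index) : oddPart X ⊔ S = ⊤ := by
  haveI : Fact (Nat.Prime 2) := ⟨Nat.prime_two⟩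
  have hq : IsPGroup 2 (X ⧸ oddPart X) := by
    intro q
    induction q using QuotientGroup.induction_on with
    | _ x =>
      obtain ⟨e, m, hm, hem⟩ := Nat.exists_eq_pow_mul_and_not_dvd (orderOf_pos x).ne' 2 (by norm_num)
      refine ⟨e, ?_⟩
      rw [← QuotientGroup.mk_pow, QuotientGroup.eq_one_iff]
      refine Subgroup.subset_closure (?_ : Odd (orderOf (x ^ 2 ^ e)))
      exact (Nat.not_even_iff_odd.1 fun h => hm h.two_dvd).of_dvd_nat
        (orderOf_dvd_of_pow_eq_one (by rw [← pow_mul, ← hem, pow_orderOf_eq_one]))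
  obtain ⟨n, hn⟩ := IsPGroup.iff_card.1 hq
  have h1 : (oddPart X ⊔ S).index ∣ 2 ^ n := by
    rw [← hn, ← Subgroup.index_eq_card]
    exact Subgroup.index_dvd_of_le le_sup_left
  have h2 : (oddPart X ⊔ S).index ∣ S.index := Subgroup.index_dvd_of_le le_sup_right
  exact Subgroup.index_eq_one.1
    (Nat.eq_one_of_dvd_coprimes ((Nat.coprime_two_right.2 hodd).pow_right n) h2 h1)

/-- The homomorphisms of a finite group into the rationals are no more than its elements. -/
theorem card_hom_le (A : Type u) [Group A] [Finite A] :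
    Finite (A →* ℚ) ∧ Nat.card (A →* ℚ) ≤ Nat.card A := by
  classical
  haveI := Fintype.ofFinite A
  have hli := linearIndependent_monoidHom A ℚ
  haveI := Module.Finite.finite_basis (Module.finBasis ℚ (A → ℚ))
  haveI : Finite (A →* ℚ) := hli.finite
  haveI := Fintype.ofFinite (A →* ℚ)
  refine ⟨inferInstance, ?_⟩
  have h := hli.fintype_card_le_finrank
  rw [Module.finrank_pi] at h
  rwa [Nat.card_eq_fintype_card, Nat.card_eq_fintype_card]

/-- A nontrivial normal subgroup of odd prime power order. -/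
theorem exists_odd_normal (H : Type u) [Group H] [Finite H] [Group.IsSolvable H] [Nontrivial H]
    (h : Cfsg.pCore 2 H = ⊥) :
    ∃ (q : ℕ) (Q : Subgroup H), q.Prime ∧ q ≠ 2 ∧ Q.Normal ∧ IsPGroup q Q ∧ Q ≠ ⊥ := by
  classical
  obtain ⟨n, hn⟩ := (Group.isSolvable_def H).1 (inferInstance : Group.IsSolvable H)
  have hex : ∃ m, derivedSeries H m = ⊥ := ⟨n, hn⟩
  have hm0 : Nat.find hex ≠ 0 := by
    intro h0
    have := Nat.find_spec hex
    rw [h0, derivedSeries_zero] at this
    exact top_ne_bot this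
  obtain ⟨m, hm⟩ := Nat.exists_eq_succ_of_ne_zero hm0
  set D := derivedSeries H m with hD
  have hDne : D ≠ ⊥ := Nat.find_min hex (by omega)
  have hDc : ∀ a ∈ D, ∀ b ∈ D, a * b = b * a := by
    intro a ha b hb
    have h1 := Nat.find_spec hex
    rw [hm, derivedSeries_succ, ← hD] at h1
    exact commutatorElement_eq_one_iff_mul_comm.1
      (Subgroup.mem_bot.1 (h1 ▸ Subgroup.commutator_mem_commutator ha hb))
  obtain ⟨d, hdD, hd⟩ := D.bot_or_exists_ne_one.resolve_left hDne
  set q := (orderOf d).minFac with hq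
  have hqp : q.Prime := Nat.minFac_prime fun h => hd (orderOf_eq_one_iff.1 h)
  let Q : Subgroup H :=
    { carrier := {x | x ∈ D ∧ ∃ j, x ^ q ^ j = 1}
      one_mem' := ⟨one_mem _, 0, one_pow _⟩
      mul_mem' := fun {a b} ha hb => by
        obtain ⟨ha1, i, hi⟩ := ha; obtain ⟨hb1, j, hj⟩ := hb
        refine ⟨mul_mem ha1 hb1, i + j, ?_⟩
        rw [(show Commute a b from hDc a ha1 b hb1).mul_pow, pow_add, pow_mul, hi, one_pow, one_mul,
          mul_comm (q ^ i), pow_mul, hj, one_pow]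
      inv_mem' := fun {a} ha => by
        obtain ⟨ha1, i, hi⟩ := ha
        exact ⟨inv_mem ha1, i, by rw [inv_pow, hi, inv_one]⟩ }
  have hQn : Q.Normal := ⟨fun x ⟨hx, j, hj⟩ g => ⟨(derivedSeries_normal H m).conj_mem x hx g, j, by
    rw [conj_pow, hj, mul_one, mul_inv_cancel]⟩⟩
  haveI : Fact q.Prime := ⟨hqp⟩
  have hQp : IsPGroup q Q := fun x => by
    obtain ⟨-, j, hj⟩ := x.2
    exact ⟨j, Subtype.ext hj⟩
  have hQne : Q ≠ ⊥ := by
    intro hb
    have h2 : d ^ (orderOf d / q) ∈ Q := ⟨pow_mem hdD _, 1, by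
      rw [pow_one, ← pow_mul, Nat.div_mul_cancel (Nat.minFac_dvd _), pow_orderOf_eq_one]⟩
    rw [hb, Subgroup.mem_bot] at h2
    have h3 := orderOf_pow_orderOf_div (orderOf_pos d).ne' (Nat.minFac_dvd (orderOf d))
    rw [h2, orderOf_one] at h3
    exact hqp.ne_one h3.symm
  refine ⟨q, Q, hqp, ?_, hQn, hQp, hQne⟩
  intro h2
  exact hQne (Cores.pCore_eq_bot_iff.1 h Q hQn (h2 ▸ hQp))

namespace Data

variable {S W : Subgroup X}

local notation "O" => Cfsg.pCore 2 X

set_option maxHeartbeats 1000000 in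
/-- `W` is normal when all proper overgroups of `S` normalize it. -/
theorem normal [Group.IsSolvable X] (d : Data S W)
    (hproper : ∀ H : Subgroup X, S ≤ H → H ≠ ⊤ → H ≤ Subgroup.normalizer (W : Set X)) : W.Normal := by
  classical
  by_contra hW
  haveI : Fact (Nat.Prime 2) := ⟨Nat.prime_two⟩
  have htopN : ¬ (⊤ : Subgroup X) ≤ Subgroup.normalizer (W : Set X) := fun h =>
    hW (Subgroup.normalizer_eq_top_iff.1 (top_le_iff.1 h))
  have hOS := d.pCore_le
  have hdich : ∀ N : Subgroup X, N.Normal → N ⊓ S ≤ O ∨ N ⊔ S = ⊤ := by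
    intro N hN
    by_contra hcon
    push Not at hcon
    haveI := hN
    have hp : IsPGroup 2 ↥(S.subgroupOf N) := d.two.comap_subtype
    have hi : ¬ 2 ∣ (S.subgroupOf N).index := by
      intro h2
      have h3 : (S.subgroupOf N).index * Nat.card ↥(S.subgroupOf N) = Nat.card N := Subgroup.index_mul_card _
      have h4 : Nat.card ↥(N ⊔ S) * Nat.card ↥(S ⊓ N) = Nat.card S * Nat.card N := by
        rw [sup_comm]; exact Cores.card_sup_mul_card_inf S N
      have h5 : Nat.card ↥(S.subgroupOf N) = Nat.card ↥(S ⊓ N) := by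
        rw [← Subgroup.card_map_of_injective (f := N.subtype) N.subtype_injective,
          Subgroup.subgroupOf_map_subtype]
      rw [← h3, h5, ← mul_assoc] at h4
      have h6 : Nat.card ↥(N ⊔ S) = Nat.card S * (S.subgroupOf N).index :=
        Nat.eq_of_mul_eq_mul_right Nat.card_pos h4
      have h7 : Nat.card X = Nat.card ↥(N ⊔ S) * (N ⊔ S).index := (Subgroup.card_mul_index _).symm
      rw [h6, ← S.card_mul_index, mul_assoc] at h7
      have h8 := Nat.eq_of_mul_eq_mul_left Nat.card_pos h7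
      exact Nat.not_even_iff_odd.2 d.odd (even_iff_two_dvd.2 (h8 ▸ dvd_mul_of_dvd_left h2 _))
    set P := hp.toSylow hi with hP
    have hmap : (P : Subgroup ↥N).map N.subtype = S ⊓ N := Subgroup.subgroupOf_map_subtype S N
    have hF := Sylow.normalizer_sup_eq_top P
    rw [hmap] at hF
    have hSN : S ≤ Subgroup.normalizer ((S ⊓ N : Subgroup X) : Set X) := by
      intro s hs
      rw [Subgroup.mem_normalizer_iff]
      intro v
      show v ∈ S ⊓ N ↔ s * v * s⁻¹ ∈ S ⊓ N
      constructor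
      · intro hv
        obtain ⟨hv1, hv2⟩ := Subgroup.mem_inf.1 hv
        exact Subgroup.mem_inf.2 ⟨mul_mem (mul_mem hs hv1) (inv_mem hs), hN.conj_mem v hv2 s⟩
      · intro hv
        obtain ⟨hv1, hv2⟩ := Subgroup.mem_inf.1 hv
        refine Subgroup.mem_inf.2 ⟨?_, ?_⟩
        · have := mul_mem (mul_mem (inv_mem hs) hv1) hs
          rwa [show s⁻¹ * (s * v * s⁻¹) * s = v by group] at this
        · have := hN.conj_mem' _ hv2 s
          rwa [show s⁻¹ * (s * v * s⁻¹) * s = v by group] at this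
    by_cases htop : Subgroup.normalizer ((S ⊓ N : Subgroup X) : Set X) = ⊤
    · apply hcon.1
      rw [inf_comm]
      exact Cores.le_pCore (Subgroup.normalizer_eq_top_iff.1 htop) (d.two.to_le inf_le_left)
    · apply htopN
      rw [← hF]
      refine sup_le (hproper _ hSN htop) (le_trans le_sup_left (hproper _ le_sup_right hcon.2))
  -- the closure
  haveI := Fintype.ofFinite X
  set W1 := ⨆ y ∈ (Finset.univ : Finset X), cj y W with hW1def
  have hcjW1 : ∀ y, cj y W ≤ W1 := fun y => le_iSup₂_of_le y (Finset.mem_univ y) le_rfl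
  have hWW1 : W ≤ W1 := d.cj_one ▸ hcjW1 1
  have hcjn : ∀ g y, cj g (cj y W) = cj (g * y) W := fun g y => by
    ext v
    rw [mem_cj, mem_cj, mem_cj, show y⁻¹ * (g⁻¹ * v * g) * y = (g * y)⁻¹ * v * (g * y) by group]
  haveI hW1n : W1.Normal := by
    constructor
    intro v hv g
    have hle : W1 ≤ W1.comap (MulAut.conj g).toMonoidHom := iSup₂_le fun y _ w hw => by
      refine hcjW1 (g * y) ?_
      rw [← hcjn g y]
      exact ⟨w, hw, rfl⟩
    exact hle hv
  have hWO : ∀ y, cj y W ≤ O := fun y v hv => by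
    have h1 := Subgroup.Normal.conj_mem (inferInstance : (O).Normal) _ (d.le_pCore (mem_cj.1 hv)) y
    rwa [show y * (y⁻¹ * v * y) * y⁻¹ = v by group] at h1
  have hW1O : W1 ≤ O := iSup₂_le fun y _ => hWO y
  have hW1c : W1 ≤ Subgroup.centralizer (W1 : Set X) := by
    refine iSup₂_le fun y _ v hv => ?_
    have h1 : W1 ≤ Subgroup.centralizer ({v} : Set X) := by
      refine iSup₂_le fun z _ w hw => Subgroup.mem_centralizer_singleton_iff.2 ?_
      have h2 := d.cj_comm (y⁻¹ * z) (show y⁻¹ * w * y ∈ cj (y⁻¹ * z) W from by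
        rw [← hcjn]; exact mem_cj.2 (by simpa [mul_assoc] using hw))
      have h3 := Subgroup.mem_centralizer_iff.1 h2 _ (mem_cj.1 hv)
      calc w * v = y * ((y⁻¹ * w * y) * (y⁻¹ * v * y)) * y⁻¹ := by group
        _ = y * ((y⁻¹ * v * y) * (y⁻¹ * w * y)) * y⁻¹ := by rw [h3]
        _ = v * w := by group
    exact Subgroup.mem_centralizer_iff.2 fun w hw => Subgroup.mem_centralizer_singleton_iff.1 (h1 hw)
  have hcomm : ∀ a ∈ W1, ∀ b ∈ W1, a * b = b * a := fun a ha b hb =>
    Subgroup.mem_centralizer_iff.1 (hW1c hb) a ha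
  have hsq : ∀ a ∈ W1, a * a = 1 := by
    let T : Subgroup X :=
      { carrier := {a | a ∈ W1 ∧ a * a = 1}
        one_mem' := ⟨one_mem _, one_mul 1⟩
        mul_mem' := fun {a b} ha hb => ⟨mul_mem ha.1 hb.1, by
          rw [show a * b * (a * b) = a * (b * a) * b by group, hcomm b hb.1 a ha.1,
            show a * (a * b) * b = (a * a) * (b * b) by group, ha.2, hb.2, one_mul]⟩
        inv_mem' := fun {a} ha => ⟨inv_mem ha.1, by rw [← mul_inv_rev, ha.2, inv_one]⟩ }
    have hle : W1 ≤ T := iSup₂_le fun y _ v hv => ⟨hcjW1 y hv, by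
      have h := (LocalEven2.isElementaryAbelian_iff.1 d.elem).2 _ (mem_cj.1 hv)
      rw [pow_two, show y⁻¹ * v * y * (y⁻¹ * v * y) = y⁻¹ * (v * v) * y by group] at h
      have := congrArg (fun z => y * z * y⁻¹) h
      simpa [mul_assoc] using this⟩
    exact fun a ha => (hle ha).2
  have hCW : Subgroup.centralizer (W1 : Set X) ≤ Subgroup.normalizer (W : Set X) := fun x hx => by
    have h0 : ∀ w ∈ W, x * w * x⁻¹ = w := fun w hw => by
      rw [← Subgroup.mem_centralizer_iff.1 hx w (hWW1 hw), mul_inv_cancel_right]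
    rw [Subgroup.mem_normalizer_iff]
    intro v
    refine ⟨fun hv => by rwa [h0 v hv], fun hv => ?_⟩
    have h1 := h0 _ hv
    have h2 : x * v * x⁻¹ = v := mul_left_cancel (mul_right_cancel (h1.trans (show x * v * x⁻¹ = x * v * x⁻¹ from rfl)))
    rwa [h2] at hv
  have hCS : Subgroup.centralizer (W1 : Set X) ⊔ S ≠ ⊤ := fun h => htopN (h ▸ sup_le hCW d.norm)
  have hCSO : Subgroup.centralizer (W1 : Set X) ⊓ S ≤ O := (hdich _ inferInstance).resolve_right hCS
  -- an elementary abelian subgroup outside `O`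
  obtain ⟨A, hA, hAO⟩ : ∃ A, LocalEven2.IsMaxEA 2 S A ∧ ¬ A ≤ O := by
    by_contra hall
    push Not at hall
    have hJ := LocalEven2.thompsonSubgroupOf_le_of hall
    have heq := LocalEven2.thompsonSubgroupOf_eq_of_between hJ hOS
    have h1 : (⊤ : Subgroup X) ≤ Subgroup.normalizer (Cfsg.thompsonSubgroupOf 2 (O) : Set X) := by
      rw [← Subgroup.normalizer_eq_top (H := O)]
      exact LocalEven2.normalizer_le_normalizer_thompson 2 _
    rw [heq] at h1
    exact htopN (h1.trans d.thompson)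
  obtain ⟨hAc, hA2⟩ := LocalEven2.isElementaryAbelian_iff.1 hA.2.1
  have hA2' : ∀ x ∈ A, x * x = 1 := fun x hx => by rw [← pow_two]; exact hA2 x hx
  set C := Subgroup.centralizer (W1 : Set X) with hCdef
  set CA := Subgroup.centralizer (A : Set X) with hCAdef
  have hWCA : W ≤ CA := fun w hw => Subgroup.mem_centralizer_iff.2 fun x hx => hAc x hx w (d.inA A hA hw)
  -- (i)
  have hi : CA.relIndex W1 ≤ C.relIndex A := by
    set B := (A ⊓ C) ⊔ W1 with hB
    have hBe : Cfsg.IsElementaryAbelian 2 B := by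
      rw [LocalEven2.isElementaryAbelian_iff]
      let T : Subgroup X := B ⊓ Subgroup.centralizer (B : Set X)
      have hcB : B ≤ Subgroup.centralizer (B : Set X) := by
        refine sup_le (fun x hx => ?_) (fun x hx => ?_)
        · have h1 : B ≤ Subgroup.centralizer ({x} : Set X) := sup_le
            (fun y hy => Subgroup.mem_centralizer_singleton_iff.2 (hAc y hy.1 x hx.1))
            (fun y hy => Subgroup.mem_centralizer_singleton_iff.2 (Subgroup.mem_centralizer_iff.1 hx.2 y hy))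
          exact Subgroup.mem_centralizer_iff.2 fun y hy => Subgroup.mem_centralizer_singleton_iff.1 (h1 hy)
        · have h1 : B ≤ Subgroup.centralizer ({x} : Set X) := sup_le
            (fun y hy => Subgroup.mem_centralizer_singleton_iff.2 (Subgroup.mem_centralizer_iff.1 hy.2 x hx).symm)
            (fun y hy => Subgroup.mem_centralizer_singleton_iff.2 (hcomm y hy x hx))
          exact Subgroup.mem_centralizer_iff.2 fun y hy => Subgroup.mem_centralizer_singleton_iff.1 (h1 hy)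
      have hc : ∀ a ∈ B, ∀ b ∈ B, a * b = b * a := fun a ha b hb => Subgroup.mem_centralizer_iff.1 (hcB hb) a ha
      refine ⟨hc, fun b hb => ?_⟩
      let E : Subgroup X :=
        { carrier := {a | a ∈ B ∧ a ^ 2 = 1}
          one_mem' := ⟨one_mem _, one_pow 2⟩
          mul_mem' := fun {a b} ha hb => ⟨mul_mem ha.1 hb.1, by
            rw [(show Commute a b from hc a ha.1 b hb.1).mul_pow, ha.2, hb.2, one_mul]⟩
          inv_mem' := fun {a} ha => ⟨inv_mem ha.1, by rw [inv_pow, ha.2, inv_one]⟩ }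
      exact ((sup_le (fun y hy => ⟨Subgroup.mem_sup_left hy, hA2 y hy.1⟩)
        (fun y hy => ⟨Subgroup.mem_sup_right hy, by rw [pow_two]; exact hsq y hy⟩) : B ≤ E) hb).2
    have hBS : B ≤ S := sup_le (inf_le_left.trans hA.1) (hW1O.trans hOS)
    have h1 := hA.2.2 B hBS hBe
    have h2 := Cores.card_sup_mul_card_inf (A ⊓ C) W1
    rw [← hB] at h2
    have h3 : Nat.card ↥(A ⊓ C ⊓ W1) ≤ Nat.card ↥(W1 ⊓ CA) := Subgroup.card_le_of_le fun x hx =>
      ⟨hx.2, Subgroup.mem_centralizer_iff.2 fun y hy => hAc y hy x hx.1.1⟩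
    have hcA : Nat.card A = Nat.card ↥(A ⊓ C) * C.relIndex A := by
      rw [← Subgroup.inf_relIndex_left A C, ← Subgroup.relIndex_bot_left, ← Subgroup.relIndex_bot_left,
        Subgroup.relIndex_mul_relIndex _ _ _ bot_le inf_le_left]
    have hcW : Nat.card W1 = Nat.card ↥(W1 ⊓ CA) * CA.relIndex W1 := by
      rw [← Subgroup.inf_relIndex_left W1 CA, ← Subgroup.relIndex_bot_left, ← Subgroup.relIndex_bot_left,
        Subgroup.relIndex_mul_relIndex _ _ _ bot_le inf_le_left]
    refine Nat.le_of_mul_le_mul_right ?_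
      (Nat.mul_pos (Nat.card_pos (α := ↥(A ⊓ C))) (Nat.card_pos (α := ↥(W1 ⊓ CA))))
    calc CA.relIndex W1 * (Nat.card ↥(A ⊓ C) * Nat.card ↥(W1 ⊓ CA))
        = Nat.card ↥(A ⊓ C) * Nat.card W1 := by rw [hcW]; ring
      _ = Nat.card B * Nat.card ↥(A ⊓ C ⊓ W1) := h2.symm
      _ ≤ Nat.card A * Nat.card ↥(W1 ⊓ CA) := Nat.mul_le_mul h1 h3
      _ = _ := by rw [hcA]; ring
  set k := (O).relIndex A with hk
  set a := C.relIndex (A ⊓ O) with ha
  have hka : C.relIndex A = a * k := by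
    rw [ha, ← Subgroup.inf_relIndex_right C (A ⊓ O), hk, ← Subgroup.inf_relIndex_left A O,
      ← Subgroup.inf_relIndex_left A C, Subgroup.relIndex_mul_relIndex _ _ _ inf_le_right inf_le_left]
    congr 1
    refine le_antisymm (le_inf inf_le_right (le_inf inf_le_left fun x hx => hCSO ⟨hx.2, hA.1 hx.1⟩))
      (le_inf (inf_le_right.trans inf_le_left) inf_le_left)
  rw [hka] at hi
  have hk1 : 1 < k := by
    have h0 : k ≠ 0 := relIdx_ne_zero
    have h1 : k ≠ 1 := fun h => hAO (Subgroup.relIndex_eq_one.1 h)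
    omega
  set CA0 := Subgroup.centralizer ((A ⊓ O : Subgroup X) : Set X) with hCA0def
  have ha2 : a ^ 2 ≤ CA.relIndex W1 := by
    refine le_trans (d.greedy (A ⊓ O) inf_le_right Finset.univ fun r hr y _ => ?_) ?_
    · rw [hA2' r hr.1]; exact one_mem _
    · exact relIndex_le_left (Subgroup.centralizer_le (SetLike.coe_subset_coe.2 inf_le_left))
  -- the layer
  obtain ⟨U, ⟨hUn, hUW1, hUc⟩, hUmax⟩ := (Set.toFinite {N : Subgroup X | N.Normal ∧ N ≤ W1 ∧
      ∀ x ∈ oddPart X, ∀ u ∈ N, x * u = u * x}).exists_maximalFor (fun N : Subgroup X => Nat.card N) _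
    ⟨⊥, inferInstance, bot_le, fun x _ u hu => by rw [Subgroup.mem_bot.1 hu, mul_one, one_mul]⟩
  haveI := hUn
  have hUne : U ≠ W1 := by
    intro h
    apply hCS
    rw [eq_top_iff, ← oddPart_sup d.two d.odd]
    refine sup_le_sup_right (fun x hx => Subgroup.mem_centralizer_iff.2 fun w hw => ?_) _
    exact (hUc x hx w (h ▸ hw)).symm
  obtain ⟨L, ⟨hLn, hUL, hLW1⟩, hLmin⟩ := (Set.toFinite {N : Subgroup X | N.Normal ∧ U < N ∧
      N ≤ W1}).exists_minimalFor (fun N : Subgroup X => Nat.card N) _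
    ⟨W1, hW1n, lt_of_le_of_ne hUW1 hUne, le_rfl⟩
  haveI := hLn
  have hW1p : IsPGroup 2 W1 := fun x => ⟨1, Subtype.ext (by simpa [pow_two] using hsq x x.2)⟩
  have hmin : ∀ M : Subgroup X, M.Normal → U ≤ M → M ≤ L → M = U ∨ M = L := by
    intro M hM hUM hML
    rcases eq_or_lt_of_le hUM with h | h
    · exact Or.inl h.symm
    · exact Or.inr (Subgroup.eq_of_le_of_card_ge hML
        (hLmin ⟨hM, h, hML.trans hLW1⟩ (Subgroup.card_le_of_le hML)))
  obtain ⟨hcore, hOker⟩ := core_secAct_chief U L hUL (hW1p.to_le hLW1) hmin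
  set ψ := secAct U L with hψ
  have hCker : C ≤ ψ.ker := fun x hx => (mem_ker_secAct U L x).2 fun l hl => by
    rw [← Subgroup.mem_centralizer_iff.1 hx l (hLW1 hl), mul_inv_cancel_right, inv_mul_cancel]
    exact one_mem _
  have hXker : ¬ oddPart X ≤ ψ.ker := by
    intro hle
    have hcen : ∀ x ∈ oddPart X, ∀ l ∈ L, x * l = l * x := by
      intro x hx
      have hgen : oddPart X ≤ Subgroup.centralizer (L : Set X) := (Subgroup.closure_le _).2 (by
        intro z hz
        have hz' : Odd (orderOf z) := hz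
        rw [SetLike.mem_coe, Subgroup.mem_centralizer_iff]
        intro l hl
        set u := l⁻¹ * (z * l * z⁻¹) with hu
        have hzX : z ∈ oddPart X := Subgroup.subset_closure hz
        have huU : u ∈ U := (mem_ker_secAct U L z).1 (hle hzX) l hl
        have hzu : z * u = u * z := hUc z hzX u huU
        have hpow : ∀ n : ℕ, z ^ n * l * (z ^ n)⁻¹ = l * u ^ n := by
          intro n
          induction n with
          | zero => simp
          | succ n ih =>
            calc z ^ (n + 1) * l * (z ^ (n + 1))⁻¹ = z * (z ^ n * l * (z ^ n)⁻¹) * z⁻¹ := by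
                  rw [pow_succ']; group
              _ = (z * l * z⁻¹) * (z * u ^ n * z⁻¹) := by rw [ih]; group
              _ = l * u ^ (n + 1) := by
                rw [((show Commute z u from hzu).pow_right n).eq, mul_inv_cancel_right, pow_succ', ← mul_assoc l u,
                  show l * u = z * l * z⁻¹ by rw [hu]; group]
        have h1 := hpow (orderOf z)
        rw [pow_orderOf_eq_one, one_mul, inv_one, mul_one] at h1
        obtain ⟨j, hj⟩ := hz'
        have h2 : u ^ 2 = 1 := by rw [pow_two]; exact hsq u (hUW1 huU)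
        have hu1 : u = 1 := by
          have h3 : u ^ orderOf z = 1 := mul_eq_left.1 h1.symm
          rwa [hj, pow_succ, pow_mul, h2, one_pow, one_mul] at h3
        rw [hu, inv_mul_eq_one] at hu1
        exact (mul_inv_eq_iff_eq_mul.1 hu1.symm).symm)
      exact fun l hl => (Subgroup.mem_centralizer_iff.1 (hgen hx) l hl).symm
    have hlt : Nat.card U < Nat.card L := Set.Finite.card_lt_card (Set.toFinite _) (SetLike.coe_ssubset_coe.2 hUL)
    exact absurd (hUmax ⟨hLn, hLW1, hcen⟩ hlt.le) (not_le.2 hlt)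
  have hkS : ψ.ker ⊓ S ≤ O := by
    refine (hdich _ inferInstance).resolve_right fun h => hXker ((Subgroup.closure_le _).2 fun x hx => ?_)
    exact odd_mem_of_sup d.two h hx
  have hVsq : ∀ v : ↥(secV U L), v * v = 1 := fun v => by
    obtain ⟨l, hl, rfl⟩ := secMk_surj U L v
    exact Subtype.ext (congrArg (QuotientGroup.mk (s := U)) (hsq l (hLW1 hl)))
  have hVc : ∀ v w : ↥(secV U L), v * w = w * v := fun v w => by
    obtain ⟨l, hl, rfl⟩ := secMk_surj U L v
    obtain ⟨m, hm, rfl⟩ := secMk_surj U L w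
    exact Subtype.ext (congrArg (QuotientGroup.mk (s := U)) (hcomm l (hLW1 hl) m (hLW1 hm)))
  letI : CommGroup ↥(secV U L) := { (secV U L).toGroup with mul_comm := hVc }
  have hS3 := not_three_range d.free hW1p ψ hCker
  obtain ⟨y, hy⟩ := layer_bound ψ hVsq hcore hS3 A (fun r hr => by rw [hA2' r hr]; exact one_mem _)
  -- the fixed part
  let LA : Subgroup X :=
    { carrier := {l | l ∈ L ∧ ∀ x ∈ A, l⁻¹ * (x * l * x⁻¹) ∈ U}
      one_mem' := ⟨one_mem _, fun x _ => by simp⟩
      mul_mem' := fun {l m} hl hm => ⟨mul_mem hl.1 hm.1, fun x hx => by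
        rw [show (l * m)⁻¹ * (x * (l * m) * x⁻¹) = (m⁻¹ * (l⁻¹ * (x * l * x⁻¹)) * m) * (m⁻¹ * (x * m * x⁻¹)) by group]
        exact mul_mem (Subgroup.Normal.conj_mem' inferInstance _ (hl.2 x hx) m) (hm.2 x hx)⟩
      inv_mem' := fun {l} hl => ⟨inv_mem hl.1, fun x hx => by
        rw [show l⁻¹⁻¹ * (x * l⁻¹ * x⁻¹) = l * (l⁻¹ * (x * l * x⁻¹))⁻¹ * l⁻¹ by group]
        exact Subgroup.Normal.conj_mem inferInstance _ (inv_mem (hl.2 x hx)) l⟩ }
  have hLAi : k ^ 2 ≤ LA.relIndex L := by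
    let π : ↥L →* ↥(secV U L) := MonoidHom.mk' (fun l => secMk U L l l.2) fun p q => rfl
    have hπ : Function.Surjective π := fun v => by
      obtain ⟨l, hl, rfl⟩ := secMk_surj U L v
      exact ⟨⟨l, hl⟩, rfl⟩
    have hcomap : (fixV ψ A).comap π = LA.subgroupOf L := by
      ext l
      constructor
      · intro h
        exact ⟨l.2, fun x hx => (secAct_fix_iff U L x l l.2).1 (h x hx)⟩
      · intro h x hx
        exact (secAct_fix_iff U L x l l.2).2 (h.2 x hx)
    have h1 : LA.relIndex L = (fixV ψ A).index := by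
      rw [Subgroup.relIndex, ← hcomap]; exact Subgroup.index_comap_of_surjective _ hπ
    have hker : A ⊓ ψ.ker = A ⊓ O := le_antisymm
      (le_inf inf_le_left fun x hx => hkS ⟨hx.2, hA.1 hx.1⟩) (inf_le_inf_left _ hOker)
    have h2 : Nat.card A = k * Nat.card ↥(A ⊓ ψ.ker) := by
      have h := Subgroup.relIndex_mul_relIndex ⊥ (A ⊓ (O)) A bot_le inf_le_left
      rw [Subgroup.relIndex_bot_left, Subgroup.relIndex_bot_left, Subgroup.inf_relIndex_left] at h
      rw [hker, hk, ← h, mul_comm]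
    have h3 := hy.trans (Nat.mul_le_mul_right _ (Subgroup.card_le_card_group _))
    rw [h2, ← (fixV ψ A).card_mul_index] at h3
    rw [h1]
    refine Nat.le_of_mul_le_mul_right ?_
      (Nat.mul_pos (Nat.card_pos (α := ↥(fixV ψ A))) (Nat.pow_pos (Nat.card_pos (α := ↥(A ⊓ ψ.ker))) (n := 2)))
    calc k ^ 2 * (Nat.card ↥(fixV ψ A) * Nat.card ↥(A ⊓ ψ.ker) ^ 2)
        = (k * Nat.card ↥(A ⊓ ψ.ker)) ^ 2 * Nat.card ↥(fixV ψ A) := by ring
      _ ≤ Nat.card ↥(fixV ψ A) * (fixV ψ A).index * Nat.card ↥(A ⊓ ψ.ker) ^ 2 := h3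
      _ = _ := by ring
  have hLCA : L ⊓ CA ≤ LA := fun l hl => ⟨hl.1, fun x hx => by
    rw [Subgroup.mem_centralizer_iff.1 hl.2 x hx, mul_inv_cancel_right, inv_mul_cancel]; exact one_mem _⟩
  have hL1 : LA.relIndex L ≤ CA.relIndex L := by
    rw [← Subgroup.inf_relIndex_left L CA]; exact relIndex_le_left hLCA
  have hL2 : CA.relIndex L ≤ CA.relIndex W1 := relIndex_le_right hLW1
  have hak : a ≤ k := by
    by_contra h
    push Not at h
    have h3 : a * a ≤ a * k := by rw [← pow_two]; exact ha2.trans hi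
    exact absurd (Nat.le_of_mul_le_mul_left h3 (by omega)) (not_le.2 h)
  have hka' : k ≤ a := by
    have h3 : k * k ≤ a * k := by rw [← pow_two]; exact (hLAi.trans (hL1.trans hL2)).trans hi
    exact Nat.le_of_mul_le_mul_right h3 (by omega)
  have haeq : a = k := le_antisymm hak hka'
  have hWk : CA.relIndex W1 = k ^ 2 := le_antisymm (hi.trans (by rw [haeq, pow_two])) (hLAi.trans (hL1.trans hL2))
  have hLk : CA.relIndex L = k ^ 2 := le_antisymm (hL2.trans hWk.le) (hLAi.trans hL1)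
  have hLAk : LA.relIndex L = k ^ 2 := le_antisymm (hL1.trans hLk.le) hLAi
  have hk20 : k ^ 2 ≠ 0 := by positivity
  have hUCA : U ≤ CA := by
    have h := Subgroup.relIndex_mul_relIndex (L ⊓ CA) LA L hLCA (fun l hl => hl.1)
    rw [Subgroup.inf_relIndex_left, hLk, hLAk] at h
    have h1 : (L ⊓ CA).relIndex LA = 1 :=
      Nat.eq_of_mul_eq_mul_right (Nat.pos_of_ne_zero hk20) (h.trans (one_mul _).symm)
    intro u hu
    exact (Subgroup.relIndex_eq_one.1 h1 ⟨hUL.le hu, fun x hx =>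
      mul_mem (inv_mem hu) (Subgroup.Normal.conj_mem inferInstance u hu x)⟩).2
  have hW1dec : ∀ w ∈ W1, ∃ l ∈ L, ∃ c ∈ W1 ⊓ CA, w = l * c := by
    set M := L ⊔ (W1 ⊓ CA) with hM
    have hMW : M ≤ W1 := sup_le hLW1 inf_le_left
    have h := Subgroup.relIndex_mul_relIndex (W1 ⊓ CA) M W1 le_sup_right hMW
    rw [Subgroup.inf_relIndex_left, hWk] at h
    have h2 : k ^ 2 ≤ (W1 ⊓ CA).relIndex M := by
      calc k ^ 2 = CA.relIndex L := hLk.symm
        _ ≤ (W1 ⊓ CA).relIndex L := relIndex_le_left inf_le_right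
        _ ≤ _ := relIndex_le_right le_sup_left
    have h0 : M.relIndex W1 ≠ 0 := relIdx_ne_zero
    have h3 : M.relIndex W1 = 1 := by
      by_contra hne
      have : 2 ≤ M.relIndex W1 := by omega
      have h5 : k ^ 2 * 2 ≤ k ^ 2 := le_of_le_of_eq (Nat.mul_le_mul h2 this) h
      omega
    intro w hw
    obtain ⟨l, hl, c, hc, rfl⟩ := Subgroup.mem_sup_of_normal_left.1 (Subgroup.relIndex_eq_one.1 h3 hw)
    exact ⟨l, hl, c, hc, rfl⟩
  -- `X₀` centralizes `W1 / L`
  have hX0L : ∀ x ∈ oddPart X, ∀ w ∈ W1, w⁻¹ * (x * w * x⁻¹) ∈ L := by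
    set χ := secAct L W1 with hχ
    have hAker : A ≤ χ.ker := fun x hx => (mem_ker_secAct L W1 x).2 fun w hw => by
      obtain ⟨l, hl, c, hc, rfl⟩ := hW1dec w hw
      rw [show x * (l * c) * x⁻¹ = (x * l * x⁻¹) * (x * c * x⁻¹) by group,
        Subgroup.mem_centralizer_iff.1 hc.2 x hx, mul_inv_cancel_right,
        show (l * c)⁻¹ * (x * l * x⁻¹ * c) = c⁻¹ * (l⁻¹ * (x * l * x⁻¹)) * c by group]
      exact Subgroup.Normal.conj_mem' inferInstance _
        (mul_mem (inv_mem hl) (Subgroup.Normal.conj_mem inferInstance l hl x)) c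
    have htop : χ.ker ⊔ S = ⊤ := (hdich _ inferInstance).resolve_left fun h =>
      hAO fun x hx => h ⟨hAker hx, hA.1 hx⟩
    intro x hx w hw
    have hle : oddPart X ≤ χ.ker := (Subgroup.closure_le _).2 fun z hz => odd_mem_of_sup d.two htop hz
    exact (mem_ker_secAct L W1 x).1 (hle hx) w hw
  -- an odd subgroup
  haveI : Nontrivial ↥ψ.range := by
    by_contra h
    rw [not_nontrivial_iff_subsingleton] at h
    exact hXker fun x _ => MonoidHom.mem_ker.2 (congrArg Subtype.val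
      (Subsingleton.elim (⟨ψ x, x, rfl⟩ : ↥ψ.range) 1))
  haveI : Group.IsSolvable ↥ψ.range := Group.isSolvable_of_surjective ψ.rangeRestrict_surjective
  obtain ⟨q, Qb, hq, hq2, hQn, hQp, hQne⟩ := exists_odd_normal ↥ψ.range hcore
  haveI : Fact q.Prime := ⟨hq⟩
  haveI := hQn
  set N1 := Qb.comap ψ.rangeRestrict with hN1
  let f : ↥N1 →* ↥Qb := ψ.rangeRestrict.subgroupComap Qb
  have hf : Function.Surjective f :=
    MonoidHom.subgroupComap_surjective_of_surjective _ _ ψ.rangeRestrict_surjective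
  obtain ⟨P0⟩ : Nonempty (Sylow q ↥N1) := inferInstance
  have hP0 : (P0 : Subgroup ↥N1).map f = ⊤ := by
    have h1 := (P0.mapSurjective hf).is_maximal' (hQp.to_subgroup ⊤ |> fun h => h) le_top
    rw [Sylow.coe_mapSurjective] at h1
    exact h1.symm
  set P := (P0 : Subgroup ↥N1).map N1.subtype with hPdef
  have hPp : IsPGroup q P := P0.isPGroup'.map _
  obtain ⟨nP, hnP⟩ := IsPGroup.iff_card.1 hPp
  have hPodd : Odd (Nat.card P) := by
    rw [hnP]; exact (hq.odd_of_ne_two hq2).pow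
  have hPX : P ≤ oddPart X := fun x hx => Subgroup.subset_closure
    (hPodd.of_dvd_nat (Subgroup.orderOf_dvd_natCard P hx))
  have hPfix : ∀ l ∈ L, (∀ h ∈ P, l⁻¹ * (h * l * h⁻¹) ∈ U) → l ∈ U := by
    let M : Subgroup X :=
      { carrier := {l | ∃ hl : l ∈ L, ∀ g ∈ Qb, (g : MulAut ↥(secV U L)) (secMk U L l hl) = secMk U L l hl}
        one_mem' := ⟨one_mem _, fun g _ => map_one (g : MulAut ↥(secV U L))⟩
        mul_mem' := fun {x z} hx hz => by
          obtain ⟨hx1, hx2⟩ := hx; obtain ⟨hz1, hz2⟩ := hz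
          refine ⟨mul_mem hx1 hz1, fun g hg => ?_⟩
          rw [show secMk U L (x * z) (mul_mem hx1 hz1) = secMk U L x hx1 * secMk U L z hz1 from rfl, map_mul,
            hx2 g hg, hz2 g hg]
        inv_mem' := fun {x} hx => by
          obtain ⟨hx1, hx2⟩ := hx
          refine ⟨inv_mem hx1, fun g hg => ?_⟩
          rw [show secMk U L x⁻¹ (inv_mem hx1) = (secMk U L x hx1)⁻¹ from rfl, map_inv, hx2 g hg] }
    have hMn : M.Normal := by
      constructor
      intro l hl0 x
      obtain ⟨hl, h2⟩ := hl0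
      refine ⟨Subgroup.Normal.conj_mem inferInstance l hl x, ?_⟩
      intro g hg
      rw [← secAct_mk U L x l hl, ← hψ]
      have hg' := h2 _ (hQn.conj_mem g hg ⟨ψ x, x, rfl⟩⁻¹)
      have h3 := congrArg (⇑(ψ x)) hg'
      simpa [MulAut.mul_apply] using h3
    have hUM : U ≤ M := fun u hu => ⟨hUL.le hu, fun g _ => by
      have e : secMk U L u (hUL.le hu) = 1 := Subtype.ext ((QuotientGroup.eq_one_iff u).2 hu)
      rw [e, map_one]⟩
    have hMU : M = U := by
      refine (hmin M hMn hUM fun l hl => hl.1).resolve_right fun h => hQne ?_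
      rw [eq_bot_iff]
      intro g hg
      rw [Subgroup.mem_bot]
      refine Subtype.ext (MulEquiv.ext fun v => ?_)
      obtain ⟨l, hl, rfl⟩ := secMk_surj U L v
      obtain ⟨hl', hh⟩ := (h ▸ hl : l ∈ M)
      exact hh g hg
    intro l hl hfix
    rw [← hMU]
    refine ⟨hl, fun g hg => ?_⟩
    have hgm : (⟨g, hg⟩ : ↥Qb) ∈ (P0 : Subgroup ↥N1).map f := hP0 ▸ Subgroup.mem_top _
    obtain ⟨p0, hp0, hpe⟩ := hgm
    have h1 := (secAct_fix_iff U L (p0 : X) l hl).2 (hfix p0 ⟨p0, hp0, rfl⟩)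
    have h2 : ψ (p0 : X) = (g : MulAut ↥(secV U L)) :=
      congrArg (fun z : ↥Qb => ((z : ↥ψ.range) : MulAut ↥(secV U L))) hpe
    rwa [← h2]
  -- fixed points of `P` on `W1`
  let Cp : Subgroup X :=
    { carrier := {c | c ∈ W1 ∧ ∀ h ∈ P, h * c * h⁻¹ = c}
      one_mem' := ⟨one_mem _, fun h _ => by group⟩
      mul_mem' := fun {x z} hx hz => ⟨mul_mem hx.1 hz.1, fun h hh => by
        rw [show h * (x * z) * h⁻¹ = (h * x * h⁻¹) * (h * z * h⁻¹) by group, hx.2 h hh, hz.2 h hh]⟩
      inv_mem' := fun {x} hx => ⟨inv_mem hx.1, fun h hh => by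
        rw [← conj_inv, hx.2 h hh]⟩ }
  have hCpdec : ∀ w ∈ W1, ∃ c ∈ Cp, c⁻¹ * w ∈ L := by
    letI : CommGroup ↥W1 := { W1.toGroup with mul_comm := fun a b => Subtype.ext (hcomm a a.2 b b.2) }
    haveI := Fintype.ofFinite ↥P
    intro w hw
    let g : ↥P → ↥W1 := fun h => ⟨(h : X) * w * (h : X)⁻¹, hW1n.conj_mem w hw h⟩
    set c : ↥W1 := ∏ h, g h with hc
    refine ⟨c, ⟨c.2, fun h hh => ?_⟩, ?_⟩
    · let φ : ↥W1 →* ↥W1 :=
        MonoidHom.mk' (fun v => ⟨h * (v : X) * h⁻¹, hW1n.conj_mem v v.2 h⟩) fun a b => Subtype.ext (by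
          show h * ((a : X) * b) * h⁻¹ = (h * a * h⁻¹) * (h * b * h⁻¹)
          group)
      have e : φ c = c := by
        rw [hc, map_prod]
        refine Fintype.prod_equiv (Equiv.mulLeft (⟨h, hh⟩ : ↥P)) _ _ fun j => Subtype.ext ?_
        show h * ((j : X) * w * (j : X)⁻¹) * h⁻¹ = (h * j) * w * (h * j)⁻¹
        group
      exact congrArg Subtype.val e
    · set w' : ↥W1 := ⟨w, hw⟩
      have hmem : ∀ j : ↥P, g j * w'⁻¹ ∈ L.subgroupOf W1 := fun j => by
        rw [Subgroup.mem_subgroupOf]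
        show (j : X) * w * (j : X)⁻¹ * w⁻¹ ∈ L
        have h1 := Subgroup.Normal.conj_mem (inferInstance : L.Normal) _ (hX0L j (hPX j.2) w hw) w
        rwa [show w * (w⁻¹ * ((j : X) * w * (j : X)⁻¹)) * w⁻¹ = (j : X) * w * (j : X)⁻¹ * w⁻¹ by group] at h1
      have h2 : (∏ j, g j * w'⁻¹) ∈ L.subgroupOf W1 := prod_mem fun j _ => hmem j
      rw [Finset.prod_mul_distrib, ← hc, Finset.prod_const, Finset.card_univ] at h2
      obtain ⟨i, hi'⟩ := hPodd
      rw [Nat.card_eq_fintype_card] at hi'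
      have hww : w'⁻¹ ^ Fintype.card ↥P = w'⁻¹ := by
        have h3 : w'⁻¹ ^ 2 = 1 := by
          rw [inv_pow, pow_two]
          exact Subtype.ext (by show (w * w)⁻¹ = 1; rw [hsq w hw, inv_one])
        rw [hi', pow_succ, pow_mul, h3, one_pow, one_mul]
      rw [hww, Subgroup.mem_subgroupOf] at h2
      have h5 : (c : X) * w⁻¹ ∈ L := h2
      have h6 := inv_mem h5
      rw [mul_inv_rev, inv_inv] at h6
      rwa [hcomm (c : X)⁻¹ (inv_mem c.2) w hw]
  -- the stabilizer of the series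
  have hUcen : ∀ u ∈ U, ∀ w ∈ W1, u * w = w * u := fun u hu w hw => hcomm u (hUW1 hu) w hw
  let E : Subgroup X :=
    { carrier := {e | e ∈ O ∧ (∀ w ∈ W1, w⁻¹ * (e * w * e⁻¹) ∈ U) ∧ ∀ u ∈ U, e * u = u * e}
      one_mem' := ⟨one_mem _, fun w _ => by simp, fun u _ => by rw [one_mul, mul_one]⟩
      mul_mem' := fun {x z} hx hz => ⟨mul_mem hx.1 hz.1, fun w hw => by
          rw [show w⁻¹ * (x * z * w * (x * z)⁻¹) = (w⁻¹ * (x * w * x⁻¹)) * (x * (w⁻¹ * (z * w * z⁻¹)) * x⁻¹) by group]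
          exact mul_mem (hx.2.1 w hw) (hUn.conj_mem _ (hz.2.1 w hw) x),
        fun u hu => ((show Commute x u from hx.2.2 u hu).mul_left (show Commute z u from hz.2.2 u hu)).eq⟩
      inv_mem' := fun {x} hx => ⟨inv_mem hx.1, fun w hw => by
          have h1 := hUn.conj_mem' _ (inv_mem (hx.2.1 w hw)) x
          rwa [show x⁻¹ * (w⁻¹ * (x * w * x⁻¹))⁻¹ * x = w⁻¹ * (x⁻¹ * w * x⁻¹⁻¹) by group] at h1,
        fun u hu => (show Commute x u from hx.2.2 u hu).inv_left.eq⟩ }
  let br : X → X → X := fun e w => w⁻¹ * (e * w * e⁻¹)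
  have hbrU : ∀ e ∈ E, ∀ w ∈ W1, br e w ∈ U := fun e he w hw => he.2.1 w hw
  have hbr_right : ∀ e ∈ E, ∀ v ∈ W1, ∀ w ∈ W1, br e (v * w) = br e v * br e w := by
    intro e he v hv w hw
    show (v * w)⁻¹ * (e * (v * w) * e⁻¹) = v⁻¹ * (e * v * e⁻¹) * (w⁻¹ * (e * w * e⁻¹))
    rw [show (v * w)⁻¹ * (e * (v * w) * e⁻¹) = w⁻¹ * (v⁻¹ * (e * v * e⁻¹)) * (e * w * e⁻¹) by group,
      ← hUcen _ (hbrU e he v hv) w⁻¹ (inv_mem hw), mul_assoc]
  have hbr_left : ∀ e ∈ E, ∀ e' ∈ E, ∀ w ∈ W1, br (e * e') w = br e w * br e' w := by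
    intro e he e' he' w hw
    show w⁻¹ * (e * e' * w * (e * e')⁻¹) = w⁻¹ * (e * w * e⁻¹) * (w⁻¹ * (e' * w * e'⁻¹))
    rw [show w⁻¹ * (e * e' * w * (e * e')⁻¹) = (w⁻¹ * (e * w * e⁻¹)) * (e * (w⁻¹ * (e' * w * e'⁻¹)) * e⁻¹) by group,
      he.2.2 _ (hbrU e' he' w hw), mul_inv_cancel_right]
  have hEn : ∀ e ∈ E, ∀ x : X, x * e * x⁻¹ ∈ E := by
    intro e he x
    refine ⟨Subgroup.Normal.conj_mem inferInstance e he.1 x, fun w hw => ?_, fun u hu => ?_⟩
    · have h1 := hUn.conj_mem _ (he.2.1 _ (hW1n.conj_mem' w hw x)) x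
      rwa [show x * ((x⁻¹ * w * x)⁻¹ * (e * (x⁻¹ * w * x) * e⁻¹)) * x⁻¹ =
        w⁻¹ * (x * e * x⁻¹ * w * (x * e * x⁻¹)⁻¹) by group] at h1
    · have h1 := he.2.2 _ (hUn.conj_mem' u hu x)
      calc x * e * x⁻¹ * u = x * (e * (x⁻¹ * u * x)) * x⁻¹ := by group
        _ = x * ((x⁻¹ * u * x) * e) * x⁻¹ := by rw [h1]
        _ = u * (x * e * x⁻¹) := by group
  have hbrconj : ∀ e x w, x * br e w * x⁻¹ = br (x * e * x⁻¹) (x * w * x⁻¹) := fun e x w => by
    show x * (w⁻¹ * (e * w * e⁻¹)) * x⁻¹ = (x * w * x⁻¹)⁻¹ * (x * e * x⁻¹ * (x * w * x⁻¹) * (x * e * x⁻¹)⁻¹)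
    group
  -- `A ∩ O` gives a nontrivial stabilizing element
  set D := Subgroup.closure {u | ∃ e ∈ E, ∃ l ∈ L, u = br e l} with hDdef
  have hDU : D ≤ U := (Subgroup.closure_le _).2 (by rintro _ ⟨e, he, l, hl, rfl⟩; exact hbrU e he l (hLW1 hl))
  have hDne : D ≠ ⊥ := by
    have hnle : ¬ A ⊓ O ≤ C := fun h => by
      have := Subgroup.relIndex_eq_one.2 h
      rw [← ha] at this
      omega
    obtain ⟨e, heA, heC⟩ := SetLike.not_le_iff_exists.1 hnle
    have hfixc : ∀ c ∈ CA, e * c * e⁻¹ = c := fun c hc => by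
      rw [Subgroup.mem_centralizer_iff.1 hc e heA.1, mul_inv_cancel_right]
    have heE : e ∈ E := by
      refine ⟨heA.2, fun w hw => ?_, fun u hu => Subgroup.mem_centralizer_iff.1 (hUCA hu) e heA.1⟩
      obtain ⟨l, hl, c, hc, rfl⟩ := hW1dec w hw
      rw [show e * (l * c) * e⁻¹ = (e * l * e⁻¹) * (e * c * e⁻¹) by group, hfixc c hc.2,
        show (l * c)⁻¹ * (e * l * e⁻¹ * c) = c⁻¹ * (l⁻¹ * (e * l * e⁻¹)) * c by group]
      exact Subgroup.Normal.conj_mem' inferInstance _ ((mem_ker_secAct U L e).1 (hOker heA.2) l hl) c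
    intro hD
    apply heC
    rw [Subgroup.mem_centralizer_iff]
    intro w hw
    obtain ⟨l, hl, c, hc, rfl⟩ := hW1dec w hw
    have h1 : br e l = 1 := Subgroup.mem_bot.1 (hD ▸ Subgroup.subset_closure ⟨e, heE, l, hl, rfl⟩)
    have h2 : br e (l * c) = 1 := by
      rw [hbr_right e heE l (hLW1 hl) c hc.1, h1, one_mul]
      show c⁻¹ * (e * c * e⁻¹) = 1
      rw [hfixc c hc.2, inv_mul_cancel]
    exact (mul_inv_eq_iff_eq_mul.1 (inv_mul_eq_one.1 h2).symm).symm
  haveI hDn : D.Normal := by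
    constructor
    intro n hn x
    have hle : D ≤ D.comap (MulAut.conj x).toMonoidHom := (Subgroup.closure_le _).2 (by
      rintro _ ⟨e, he, l, hl, rfl⟩
      exact Subgroup.subset_closure
        ⟨x * e * x⁻¹, hEn e he x, x * l * x⁻¹, Subgroup.Normal.conj_mem inferInstance l hl x, hbrconj e x l⟩)
    exact hle hn
  obtain ⟨D', ⟨hD'n, hD'D⟩, hD'max⟩ := (Set.toFinite {N : Subgroup X | N.Normal ∧ N < D}).exists_maximalFor
    (fun N : Subgroup X => Nat.card N) _ ⟨⊥, inferInstance, bot_lt_iff_ne_bot.2 hDne⟩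
  haveI := hD'n
  have hmaxD : ∀ N : Subgroup X, N.Normal → D' < N → N ≤ D → N = D := by
    intro N hN h1 h2
    by_contra hne
    have hlt : Nat.card D' < Nat.card N := Set.Finite.card_lt_card (Set.toFinite _) (SetLike.coe_ssubset_coe.2 h1)
    exact absurd (hD'max ⟨hN, lt_of_le_of_ne h2 hne⟩ hlt.le) (not_le.2 hlt)
  have htriv : ∀ x : X, ∀ u ∈ D, u⁻¹ * (x * u * x⁻¹) ∈ D' := by
    set ξ := secAct D' D with hξ
    have hdvd : 2 ∣ Nat.card ↥(secV D' D) := by
      have hp : IsPGroup 2 ↥(secV D' D) := (hW1p.to_le (hDU.trans hUW1)).map _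
      obtain ⟨i, hi'⟩ := IsPGroup.iff_card.1 hp
      rcases i with _ | i
      · exfalso
        rw [pow_zero, Subgroup.card_eq_one, secV, Subgroup.map_eq_bot_iff, QuotientGroup.ker_mk'] at hi'
        exact hD'D.not_ge hi'
      · rw [hi']; exact Dvd.intro_left _ rfl
    obtain ⟨v, hv, hv1⟩ := (d.two.map ξ).exists_fixed_point_of_prime_dvd_card_of_fixed_point ↥(secV D' D) hdvd
      (a := 1) (fun g => map_one (g : MulAut ↥(secV D' D)))
    let T : Subgroup X :=
      { carrier := {u | u ∈ D ∧ ∀ x : X, u⁻¹ * (x * u * x⁻¹) ∈ D'}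
        one_mem' := ⟨one_mem _, fun x => by simp⟩
        mul_mem' := fun {u w} hu hw => ⟨mul_mem hu.1 hw.1, fun x => by
          rw [show (u * w)⁻¹ * (x * (u * w) * x⁻¹) = (w⁻¹ * (u⁻¹ * (x * u * x⁻¹)) * w) * (w⁻¹ * (x * w * x⁻¹)) by group]
          exact mul_mem (Subgroup.Normal.conj_mem' inferInstance _ (hu.2 x) w) (hw.2 x)⟩
        inv_mem' := fun {u} hu => ⟨inv_mem hu.1, fun x => by
          rw [show u⁻¹⁻¹ * (x * u⁻¹ * x⁻¹) = u * (u⁻¹ * (x * u * x⁻¹))⁻¹ * u⁻¹ by group]
          exact Subgroup.Normal.conj_mem inferInstance _ (inv_mem (hu.2 x)) u⟩ }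
    have hTn : T.Normal := ⟨fun u hu g => ⟨hDn.conj_mem u hu.1 g, fun x => by
      have h1 := Subgroup.Normal.conj_mem (inferInstance : D'.Normal) _ (hu.2 (g⁻¹ * x * g)) g
      rwa [show g * (u⁻¹ * (g⁻¹ * x * g * u * (g⁻¹ * x * g)⁻¹)) * g⁻¹ =
        (g * u * g⁻¹)⁻¹ * (x * (g * u * g⁻¹) * x⁻¹) by group] at h1⟩⟩
    have hTle : D' ≤ T := fun u hu => ⟨hD'D.le hu, fun x =>
      mul_mem (inv_mem hu) (Subgroup.Normal.conj_mem inferInstance u hu x)⟩
    obtain ⟨u, hu, rfl⟩ := secMk_surj D' D v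
    have huT : u ∈ T := by
      refine ⟨hu, fun x => ?_⟩
      have hle : oddPart X ⊔ S ≤ (MulAction.stabilizer (MulAut ↥(secV D' D)) (secMk D' D u hu)).comap ξ := by
        refine sup_le (fun z hz => ?_) fun z hz => ?_
        · show ξ z (secMk D' D u hu) = secMk D' D u hu
          rw [secAct_fix_iff, hUc z hz u (hDU hu), mul_inv_cancel_right, inv_mul_cancel]
          exact one_mem _
        · exact hv ⟨ξ z, z, hz, rfl⟩
      rw [oddPart_sup d.two d.odd] at hle
      exact (secAct_fix_iff D' D x u hu).1 (hle (Subgroup.mem_top x))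
    have huD' : u ∉ D' := fun h => hv1 (Subtype.ext ((QuotientGroup.eq_one_iff u).2 h).symm)
    have hTD : T = D := hmaxD T hTn (lt_of_le_of_ne hTle fun h => huD' (h ▸ huT)) fun w hw => hw.1
    exact fun x w hw => (hTD ▸ hw : w ∈ T).2 x
  obtain ⟨u0, hu0D, hu0⟩ := SetLike.exists_of_lt hD'D
  have hDcases : ∀ u ∈ D, u ∈ D' ∨ u0 * u ∈ D' := by
    have hu2 : u0 * u0 = 1 := hsq u0 (hUW1 (hDU hu0D))
    let N : Subgroup X :=
      { carrier := {u | u ∈ D ∧ (u ∈ D' ∨ u0 * u ∈ D')}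
        one_mem' := ⟨one_mem _, Or.inl (one_mem _)⟩
        mul_mem' := fun {u w} hu hw => ⟨mul_mem hu.1 hw.1, by
          have hc : u * u0 = u0 * u := hcomm u (hUW1 (hDU hu.1)) u0 (hUW1 (hDU hu0D))
          rcases hu.2 with h1 | h1 <;> rcases hw.2 with h2 | h2
          · exact Or.inl (mul_mem h1 h2)
          · right
            rw [show u0 * (u * w) = u * (u0 * w) by rw [← mul_assoc, ← hc, mul_assoc]]
            exact mul_mem h1 h2
          · right; rw [← mul_assoc]; exact mul_mem h1 h2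
          · left
            rw [show u * w = u0 * u * (u0 * w) by
              rw [show u0 * u * (u0 * w) = u0 * (u * u0) * w by group, hc, ← mul_assoc u0 u0, hu2, one_mul]]
            exact mul_mem h1 h2⟩
        inv_mem' := fun {u} hu => ⟨inv_mem hu.1, by
          rw [inv_eq_of_mul_eq_one_right (hsq u (hUW1 (hDU hu.1)))]; exact hu.2⟩ }
    have hNn : N.Normal := ⟨fun u hu g => by
      refine ⟨hDn.conj_mem u hu.1 g, ?_⟩
      have h1 := htriv g u hu.1
      rcases hu.2 with h | h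
      · exact Or.inl (Subgroup.Normal.conj_mem inferInstance u h g)
      · right
        rw [show u0 * (g * u * g⁻¹) = (u0 * u) * (u⁻¹ * (g * u * g⁻¹)) by group]
        exact mul_mem h h1⟩
    have hND : N = D := hmaxD N hNn (lt_of_le_of_ne (fun u hu => ⟨hD'D.le hu, Or.inl hu⟩) fun h =>
      hu0 (h ▸ ⟨hu0D, Or.inr (by rw [hu2]; exact one_mem _)⟩)) fun u hu => hu.1
    exact fun u hu => (hND ▸ hu : u ∈ N).2
  let sgn : X → ℚ := fun u => if u ∈ D' then 1 else -1
  have hsgn : ∀ u ∈ D, ∀ w ∈ D, sgn (u * w) = sgn u * sgn w := by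
    intro u hu w hw
    by_cases h1 : u ∈ D'
    · by_cases h2 : w ∈ D'
      · simp only [sgn, if_pos h1, if_pos h2, if_pos (mul_mem h1 h2), one_mul]
      · simp only [sgn, if_pos h1, if_neg h2, if_neg (fun h => h2 ((D'.mul_mem_cancel_left h1).1 h)), one_mul]
    · by_cases h2 : w ∈ D'
      · simp only [sgn, if_neg h1, if_pos h2, if_neg (fun h => h1 ((D'.mul_mem_cancel_right h2).1 h)), mul_one]
      · have h3 : u * w ∈ D' := by
          have e1 := (hDcases u hu).resolve_left h1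
          have e2 := (hDcases w hw).resolve_left h2
          rw [show u * w = u0 * u * (u0 * w) by
            rw [show u0 * u * (u0 * w) = u0 * (u * u0) * w by group,
              hcomm u (hUW1 (hDU hu)) u0 (hUW1 (hDU hu0D)), ← mul_assoc u0 u0, hsq u0 (hUW1 (hDU hu0D)), one_mul]]
          exact mul_mem e1 e2
        simp only [sgn, if_neg h1, if_neg h2, if_pos h3]; norm_num
  have hsgn1 : ∀ u, sgn u = 1 → u ∈ D' := fun u h => by
    by_contra hne
    simp only [sgn, if_neg hne] at h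
    norm_num at h
  have hbrD : ∀ e ∈ E, ∀ l ∈ L, br e l ∈ D := fun e he l hl => Subgroup.subset_closure ⟨e, he, l, hl, rfl⟩
  -- the subgroup killing `Cp`
  let E' : Subgroup X :=
    { carrier := {e | e ∈ E ∧ ∀ c ∈ Cp, br e c = 1}
      one_mem' := ⟨one_mem _, fun c _ => by simp [br]⟩
      mul_mem' := fun {x z} hx hz => ⟨mul_mem hx.1 hz.1, fun c hc => by
        rw [hbr_left x hx.1 z hz.1 c hc.1, hx.2 c hc, hz.2 c hc, one_mul]⟩
      inv_mem' := fun {x} hx => ⟨inv_mem hx.1, fun c hc => by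
        have h1 := hbr_left x hx.1 x⁻¹ (inv_mem hx.1) c hc.1
        rw [mul_inv_cancel, hx.2 c hc, one_mul] at h1
        rw [← h1]
        simp [br]⟩ }
  have hann : ∀ l ∈ L, (∀ e ∈ E, br e l ∈ D') → l ∈ U := by
    let R0 : Subgroup X :=
      { carrier := {l | l ∈ L ∧ ∀ e ∈ E, br e l ∈ D'}
        one_mem' := ⟨one_mem _, fun e _ => by simp [br]⟩
        mul_mem' := fun {x z} hx hz => ⟨mul_mem hx.1 hz.1, fun e he => by
          rw [hbr_right e he x (hLW1 hx.1) z (hLW1 hz.1)]; exact mul_mem (hx.2 e he) (hz.2 e he)⟩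
        inv_mem' := fun {x} hx => ⟨inv_mem hx.1, fun e he => by
          have h1 := hbr_right e he x (hLW1 hx.1) x⁻¹ (inv_mem (hLW1 hx.1))
          rw [mul_inv_cancel, show br e 1 = 1 by simp [br]] at h1
          rw [← inv_eq_of_mul_eq_one_right h1.symm]
          exact inv_mem (hx.2 e he)⟩ }
    have hR0n : R0.Normal := ⟨fun l hl x => ⟨Subgroup.Normal.conj_mem inferInstance l hl.1 x, fun e he => by
      have h1 := hbrconj (x⁻¹ * e * x) x l
      rw [show x * (x⁻¹ * e * x) * x⁻¹ = e by group] at h1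
      rw [← h1]
      refine Subgroup.Normal.conj_mem inferInstance _ (hl.2 _ ?_) x
      have := hEn e he x⁻¹
      rwa [inv_inv] at this⟩⟩
    have hUR : U ≤ R0 := fun u hu => ⟨hUL.le hu, fun e he => by
      have : br e u = 1 := by
        show u⁻¹ * (e * u * e⁻¹) = 1
        rw [he.2.2 u hu, mul_inv_cancel_right, inv_mul_cancel]
      rw [this]; exact one_mem _⟩
    have hR0U : R0 = U := by
      refine (hmin R0 hR0n hUR fun l hl => hl.1).resolve_right fun h => hD'D.not_ge ?_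
      refine (Subgroup.closure_le _).2 ?_
      rintro _ ⟨e, he, l, hl, rfl⟩
      exact (h ▸ hl : l ∈ R0).2 e he
    exact fun l hl h => hR0U ▸ (⟨hl, h⟩ : l ∈ R0)
  have hann' : ∀ l ∈ L, (∀ e ∈ E', br e l ∈ D') → l ∈ U := by
    intro l hl h
    refine hPfix l hl fun j hj => ?_
    refine hann _ (mul_mem (inv_mem hl) (Subgroup.Normal.conj_mem inferInstance l hl j)) fun e he => ?_
    have hj' : j⁻¹ * e * j ∈ E := by have := hEn e he j⁻¹; rwa [inv_inv] at this
    have he0 : e⁻¹ * (j⁻¹ * e * j) ∈ E' := by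
      refine ⟨mul_mem (inv_mem he) hj', fun c hc => ?_⟩
      rw [hbr_left _ (inv_mem he) _ hj' c hc.1]
      have h1 : br (j⁻¹ * e * j) c = br e c := by
        have h2 := hbrconj (j⁻¹ * e * j) j c
        rw [show j * (j⁻¹ * e * j) * j⁻¹ = e by group, hc.2 j hj,
          hUc j (hPX hj) _ (hbrU _ hj' c hc.1), mul_inv_cancel_right] at h2
        exact h2
      rw [h1, ← hbr_left _ (inv_mem he) _ he c hc.1, inv_mul_cancel]
      simp [br]
    have h3 := h _ he0
    rw [hbr_left _ (inv_mem he) _ hj' l (hLW1 hl)] at h3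
    have h4 : br (j⁻¹ * e * j) l = j⁻¹ * br e (j * l * j⁻¹) * j := by
      show l⁻¹ * (j⁻¹ * e * j * l * (j⁻¹ * e * j)⁻¹) =
        j⁻¹ * ((j * l * j⁻¹)⁻¹ * (e * (j * l * j⁻¹) * e⁻¹)) * j
      group
    have hjl : j * l * j⁻¹ ∈ L := Subgroup.Normal.conj_mem inferInstance l hl j
    have h5 : br e⁻¹ l = (br e l)⁻¹ := by
      have := hbr_left e he e⁻¹ (inv_mem he) l (hLW1 hl)
      rw [mul_inv_cancel, show br 1 l = 1 by simp [br]] at this
      exact (inv_eq_of_mul_eq_one_right this.symm).symm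
    have h6 : br e l⁻¹ = (br e l)⁻¹ := by
      have := hbr_right e he l (hLW1 hl) l⁻¹ (inv_mem (hLW1 hl))
      rw [mul_inv_cancel, show br e 1 = 1 by simp [br]] at this
      exact (inv_eq_of_mul_eq_one_right this.symm).symm
    rw [h4, h5, mul_assoc _ _ j, (hUc j (hPX hj) _ (hbrU e he _ (hLW1 hjl))).symm, ← mul_assoc, ← mul_assoc] at h3
    rw [hbr_right e he _ (inv_mem (hLW1 hl)) _ (hLW1 hjl), h6]
    simpa using h3
  -- counting
  set Z := U ⊔ Cp with hZ
  set CE := Subgroup.centralizer (E' : Set X) with hCE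
  have hZle : Z ≤ CE := sup_le
    (fun u hu => Subgroup.mem_centralizer_iff.2 fun e he => he.1.2.2 u hu)
    (fun c hc => Subgroup.mem_centralizer_iff.2 fun e he => by
      have h1 : c⁻¹ * (e * c * e⁻¹) = 1 := he.2 c hc
      exact mul_inv_eq_iff_eq_mul.1 (inv_mul_eq_one.1 h1).symm)
  set m := U.relIndex L with hm
  have hm2 : 2 ≤ m := by
    have h0 : m ≠ 0 := relIdx_ne_zero
    have h1 : m ≠ 1 := fun h => hUL.not_ge (Subgroup.relIndex_eq_one.1 h)
    omega
  have hup : CE.relIndex W1 ≤ m := by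
    have hW1LZ : W1 ≤ L ⊔ Z := fun w hw => by
      obtain ⟨c, hc, hl⟩ := hCpdec w hw
      rw [show w = c * (c⁻¹ * w) by group]
      exact mul_mem (Subgroup.mem_sup_right (Subgroup.mem_sup_right hc)) (Subgroup.mem_sup_left hl)
    have h1 : Z.relIndex (L ⊔ Z) = Z.relIndex L := by
      have hn : (Z.subgroupOf (L ⊔ Z)).Normal := by
        have hle : L ⊔ Z ≤ W1 := sup_le hLW1 (sup_le hUW1 fun c hc => hc.1)
        constructor
        intro n hn g
        rw [Subgroup.mem_subgroupOf] at hn ⊢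
        show (g : X) * n * (g : X)⁻¹ ∈ Z
        rwa [hcomm g (hle g.2) n (hle n.2), mul_inv_cancel_right]
      have hc := Coprime.card_sup_mul_card_inf (N := Z) (H := L) (by
        intro l hl
        rw [Subgroup.mem_normalizer_iff]
        intro v
        have hZW : Z ≤ W1 := sup_le hUW1 fun c hc => hc.1
        constructor
        · intro hv; rwa [hcomm l (hLW1 hl) v (hZW hv), mul_inv_cancel_right]
        · intro hv
          have h2 := hcomm l (hLW1 hl) _ (hZW hv)
          have h3 : v = l * v * l⁻¹ := by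
            calc v = l⁻¹ * ((l * v * l⁻¹) * l) := by group
              _ = l⁻¹ * (l * (l * v * l⁻¹)) := by rw [h2]
              _ = l * v * l⁻¹ := inv_mul_cancel_left _ _
          rwa [h3])
      rw [sup_comm] at hc
      have e1 : Nat.card ↥(L ⊔ Z) = Nat.card Z * Z.relIndex (L ⊔ Z) := by
        rw [← Subgroup.relIndex_bot_left, ← Subgroup.relIndex_bot_left,
          Subgroup.relIndex_mul_relIndex _ _ _ bot_le le_sup_right]
      have e2 : Nat.card L = Nat.card ↥(Z ⊓ L) * Z.relIndex L := by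
        rw [← Subgroup.inf_relIndex_right, ← Subgroup.relIndex_bot_left, ← Subgroup.relIndex_bot_left,
          Subgroup.relIndex_mul_relIndex _ _ _ bot_le inf_le_right]
      rw [e1, e2] at hc
      refine Nat.eq_of_mul_eq_mul_left (Nat.mul_pos (Nat.card_pos (α := ↥Z)) (Nat.card_pos (α := ↥(Z ⊓ L)))) ?_
      calc Nat.card ↥Z * Nat.card ↥(Z ⊓ L) * Z.relIndex (L ⊔ Z)
          = Nat.card ↥Z * Z.relIndex (L ⊔ Z) * Nat.card ↥(Z ⊓ L) := by ring
        _ = _ := hc
        _ = _ := by ring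
    calc CE.relIndex W1 ≤ Z.relIndex W1 := relIndex_le_left hZle
      _ ≤ Z.relIndex (L ⊔ Z) := relIndex_le_right hW1LZ
      _ = Z.relIndex L := h1
      _ ≤ m := relIndex_le_left le_sup_left
  have hg := d.greedy E' (fun e he => he.1.1) Finset.univ fun e he y _ => by
    rw [Subgroup.mem_centralizer_iff]
    intro w hw
    have hw1 := hcjW1 y hw
    have h1 : br (e * e) w = 1 := by rw [hbr_left e he.1 e he.1 w hw1]; exact hsq _ (hUW1 (hbrU e he.1 w hw1))
    exact (mul_inv_eq_iff_eq_mul.1 (inv_mul_eq_one.1 h1).symm).symm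
  rw [← hW1def, ← hCdef, ← hCE] at hg
  have hdown : m ≤ C.relIndex E' := by
    haveI : (C.subgroupOf E').Normal := inferInstance
    set Qe := ↥E' ⧸ C.subgroupOf E'
    obtain ⟨hfin, hcard⟩ := card_hom_le Qe
    have hwell : ∀ l ∈ L, ∀ e ∈ C.subgroupOf E', sgn (br (e : X) l) = 1 := by
      intro l hl e he
      have h1 : br (e : X) l = 1 := by
        show l⁻¹ * ((e : X) * l * (e : X)⁻¹) = 1
        rw [← Subgroup.mem_centralizer_iff.1 (Subgroup.mem_subgroupOf.1 he) l (hLW1 hl), mul_inv_cancel_right,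
          inv_mul_cancel]
      rw [h1]
      exact if_pos (one_mem _)
    let hom0 : ↥L → (↥E' →* ℚ) := fun l =>
      { toFun := fun e => sgn (br (e : X) (l : X))
        map_one' := by
          show sgn (br (1 : X) (l : X)) = 1
          rw [show br (1 : X) (l : X) = 1 by simp [br]]; exact if_pos (one_mem _)
        map_mul' := fun e e' => by
          show sgn (br ((e : X) * e') (l : X)) = sgn (br (e : X) l) * sgn (br (e' : X) l)
          rw [hbr_left e e.2.1 e' e'.2.1 l (hLW1 l.2), hsgn _ (hbrD e e.2.1 l l.2) _ (hbrD e' e'.2.1 l l.2)] }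
    let hom : ↥L → (Qe →* ℚ) := fun l =>
      QuotientGroup.lift (C.subgroupOf E') (hom0 l) (fun e he => hwell l l.2 e he)
    let homq : ↥L ⧸ U.subgroupOf L → (Qe →* ℚ) := Quotient.lift hom (by
      intro l l' hll
      have hll' : (l : X)⁻¹ * l' ∈ U := by
        have := QuotientGroup.leftRel_apply.1 hll
        exact Subgroup.mem_subgroupOf.1 this
      refine QuotientGroup.monoidHom_ext _ (MonoidHom.ext fun e => ?_)
      show sgn (br (e : X) (l : X)) = sgn (br (e : X) (l' : X))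
      rw [show (l' : X) = l * ((l : X)⁻¹ * l') by group, hbr_right e e.2.1 l (hLW1 l.2) _ (hUW1 hll')]
      have h1 : br (e : X) ((l : X)⁻¹ * l') = 1 := by
        show ((l : X)⁻¹ * l')⁻¹ * ((e : X) * ((l : X)⁻¹ * l') * (e : X)⁻¹) = 1
        rw [e.2.1.2.2 _ hll', mul_inv_cancel_right, inv_mul_cancel]
      rw [h1, mul_one])
    have hinj : Function.Injective homq := by
      intro x z hxz
      induction x using QuotientGroup.induction_on with
      | _ l =>
      induction z using QuotientGroup.induction_on with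
      | _ l' =>
        refine QuotientGroup.eq.2 (Subgroup.mem_subgroupOf.2 ?_)
        refine hann' _ (mul_mem (inv_mem l.2) l'.2) fun e he => hsgn1 _ ?_
        have h1 : sgn (br e (l : X)) = sgn (br e (l' : X)) :=
          congrArg (fun φ : Qe →* ℚ => φ (QuotientGroup.mk ⟨e, he⟩)) hxz
        have hl1 : ((l : X)⁻¹ * (l' : X)) ∈ L := mul_mem (inv_mem l.2) l'.2
        rw [show (l' : X) = l * ((l : X)⁻¹ * l') by group, hbr_right e he.1 l (hLW1 l.2) _ (hLW1 hl1),
          hsgn _ (hbrD e he.1 l l.2) _ (hbrD e he.1 _ hl1)] at h1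
        have hne : sgn (br e (l : X)) ≠ 0 := by simp only [sgn]; split <;> norm_num
        exact (mul_eq_left₀ hne).1 h1.symm
    haveI := hfin
    have := Nat.card_le_card_of_injective homq hinj
    calc m = Nat.card (↥L ⧸ U.subgroupOf L) := Subgroup.index_eq_card _
      _ ≤ Nat.card (Qe →* ℚ) := this
      _ ≤ Nat.card Qe := hcard
      _ = _ := (Subgroup.index_eq_card _).symm
  have hfin := hg.trans hup
  have h1 : m ^ 2 ≤ m := (Nat.pow_le_pow_left hdown 2).trans hfin
  nlinarith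

end Data

end Cfsg.Agent.Lib.SFourLocal
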